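import Mathlib.NumberTheory.LSeries.PrimesInAP
import Mathlib.GroupTheory.IsSubnormal
import Mathlib.GroupTheory.SchurZassenhaus
import Cfsg.Agent.H81.Frob
import Cfsg.Agent.H2.Basic
import Cfsg.Agent.H82.Coset
import Cfsg.Agent.H1.Hall

/-! Reduction of the Frobenius conjecture to simple groups. -/

set_option autoImplicit false
set_option linter.style.haveILetI false

namespace Cfsg.Agent.H66.Fr

open Subgroup

universe u

/-- the number of solutions of `x ^ n = 1` -/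
noncomputable def ell (G : Type*) [Group G] (n : ℕ) : ℕ := Nat.card {x : G // x ^ n = 1}

/-- no proper divisor `n > 1` of the order has exactly `n` solutions -/
def FrS (G : Type*) [Group G] : Prop :=
  ∀ n, n ∣ Nat.card G → ell G n = n → n = 1 ∨ n = Nat.card G

variable {G : Type*} [Group G]

theorem ell_equiv {H : Type*} [Group H] (e : G ≃* H) (n : ℕ) : ell G n = ell H n :=
  Nat.card_congr (e.toEquiv.subtypeEquiv fun x => by
    simp only [MulEquiv.toEquiv_eq_coe, EquivLike.coe_coe, ← map_pow, map_eq_one_iff _ e.injective])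

theorem FrS.equiv {H : Type*} [Group H] (e : G ≃* H) (h : FrS H) : FrS G := by
  intro n hn he
  rw [Nat.card_congr e.toEquiv] at hn ⊢
  exact h n hn (ell_equiv e n ▸ he)

theorem ell_pos [Finite G] (n : ℕ) : 0 < ell G n :=
  Nat.card_pos_iff.2 ⟨⟨⟨1, one_pow _⟩⟩, inferInstance⟩

theorem gcd_dvd_ell [Finite G] (n : ℕ) : Nat.gcd n (Nat.card G) ∣ ell G n :=
  H81.gcd_dvd_card_pow_eq_one n

theorem le_ell [Finite G] {n : ℕ} (h : n ∣ Nat.card G) : n ≤ ell G n :=
  Nat.le_of_dvd (ell_pos n) (H81.dvd_card_pow_eq_one h)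

theorem ell_gcd (n : ℕ) : ell G (Nat.gcd n (Nat.card G)) = ell G n :=
  Nat.card_congr (Equiv.subtypeEquivRight fun x => by
    rw [pow_gcd_eq_one]; exact and_iff_left pow_card_eq_one')

theorem of_subgroup [Finite G] {n : ℕ} (hcount : ell G n = n) (L : Subgroup G)
    (hL : n ∣ Nat.card L) (x : G) (hx : x ^ n = 1) : x ∈ L := by
  have e : {x : G | x ∈ L ∧ x ^ n = 1} = {x : G | x ^ n = 1} := by
    apply Set.eq_of_subset_of_ncard_le (fun _ h => h.2) _ (Set.toFinite _)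
    rw [← Nat.card_coe_set_eq, ← Nat.card_coe_set_eq]
    refine hcount.le.trans ((le_ell hL).trans (le_of_eq ?_))
    exact Nat.card_congr ⟨fun x => ⟨x.1.1, x.1.2, congrArg Subtype.val x.2⟩,
      fun x => ⟨⟨x.1, x.2.1⟩, Subtype.ext x.2.2⟩, fun _ => rfl, fun _ => rfl⟩
  have : x ∈ {x : G | x ^ n = 1} := hx
  rw [← e] at this
  exact this.1

theorem eq_of_card [Finite G] {n : ℕ} (hcount : ell G n = n) (L : Subgroup G)
    (hL : Nat.card L = n) : (L : Set G) = {x : G | x ^ n = 1} := by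
  ext x
  refine ⟨fun hx => ?_, of_subgroup hcount L hL.symm.dvd x⟩
  have := pow_card_eq_one' (x := (⟨x, hx⟩ : L))
  rw [hL] at this
  exact congrArg Subtype.val this

section Coset
variable [Finite G] (N : Subgroup G) [N.Normal]

/-- the number of solutions in a coset -/
noncomputable def cc (n : ℕ) (z : G ⧸ N) : ℕ := Nat.card {y : G // (y : G ⧸ N) = z ∧ y ^ n = 1}

variable {N}

theorem cc_le {n t : ℕ} (hn : n ≠ 0) {z : G ⧸ N} (ht : t.Coprime (orderOf z)) :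
    cc N n z ≤ cc N n (z ^ t) := by
  obtain ⟨r, hr, hp, hm⟩ := Nat.forall_exists_prime_gt_and_modEq n (orderOf_pos z).ne' ht
  have hc : r.Coprime n := Nat.coprime_of_lt_prime hn hr hp
  refine Nat.card_le_card_of_injective (fun y => ⟨y.1 ^ r, ?_, ?_⟩) ?_
  · rw [QuotientGroup.mk_pow, y.2.1]; exact pow_eq_pow_iff_modEq.2 hm
  · rw [← pow_mul, mul_comm, pow_mul, y.2.2, one_pow]
  · intro a b h
    have h1 : a.1 ^ r = b.1 ^ r := congrArg Subtype.val h
    obtain ⟨s, -, hs⟩ := Nat.exists_mul_mod_eq_of_coprime (n := r) (k := n) 1 hc hn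
    have h2 : ∀ y : G, y ^ n = 1 → (y ^ r) ^ s = y := fun y hy => by
      rw [← pow_mul, pow_eq_pow_mod _ hy, hs, ← pow_eq_pow_mod _ hy, pow_one]
    exact Subtype.ext (by rw [← h2 _ a.2.2, h1, h2 _ b.2.2])

theorem cc_eq {n t : ℕ} (hn : n ≠ 0) {z : G ⧸ N} (ht : t.Coprime (orderOf z)) :
    cc N n (z ^ t) = cc N n z := by
  refine le_antisymm ?_ (cc_le hn ht)
  obtain ⟨s, -, hs⟩ := Nat.exists_mul_mod_eq_of_coprime (n := t) (k := orderOf z) 1 ht
    (orderOf_pos z).ne'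
  have h1 : (z ^ t) ^ s = z := by
    rw [← pow_mul]
    conv_rhs => rw [← pow_one z]
    exact pow_eq_pow_iff_modEq.2 hs
  have h2 : s.Coprime (orderOf (z ^ t)) := by
    rw [ht.symm.orderOf_pow]
    have h3 : (t * s).Coprime (orderOf z) := by
      rw [Nat.Coprime, Nat.ModEq.gcd_eq hs, Nat.gcd_one_left]
    exact h3.coprime_mul_left
  have := cc_le (N := N) hn h2
  rwa [h1] at this

theorem gcd_dvd_T (q m : ℕ) (w a : G ⧸ N) : Nat.gcd q (orderOf w * Nat.card N) ∣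
    Nat.card {y : {y : G // y ^ (q * m) = 1} //
      ((y : G) : G ⧸ N) ∈ zpowers w ∧ ((y : G) : G ⧸ N) ^ q = a} := by
  have h := H81.gcd_dvd_card_pow_mem (G := (zpowers w).comap (QuotientGroup.mk' N)) q
    (fun y => ((y : G) : G ⧸ N) = a ∧ y ^ m = 1) (by
      rintro x y hxy ⟨h1, h2⟩
      obtain ⟨c, rfl⟩ := isConj_iff.1 hxy
      refine ⟨?_, by rw [conj_pow, h2]; simp⟩
      obtain ⟨i, hi⟩ := c.2
      obtain ⟨j, hj⟩ := x.2
      have h3 : Commute ((c : G) : G ⧸ N) ((x : G) : G ⧸ N) := by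
        change Commute (QuotientGroup.mk' N c) (QuotientGroup.mk' N x)
        rw [← hi, ← hj]; exact Commute.zpow_zpow_self w i j
      simp only [coe_mul, coe_inv, QuotientGroup.mk_mul, QuotientGroup.mk_inv]
      rw [h3.eq, mul_inv_cancel_right, h1])
  rw [H1.card_comap_mk', Nat.card_zpowers] at h
  refine h.trans (dvd_of_eq (Nat.card_congr ⟨fun y => ⟨⟨y.1.1, ?_⟩, y.1.2, y.2.1⟩,
    fun y => ⟨⟨y.1.1, y.2.1⟩, y.2.2, Subtype.ext ?_⟩, fun _ => rfl, fun _ => rfl⟩))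
  · rw [pow_mul]; exact congrArg Subtype.val y.2.2
  · have := y.1.2
    rw [pow_mul] at this
    exact this

theorem card_root {Q : Type*} [Group Q] [Finite Q] (q : ℕ) {w b0 : Q} (h0 : b0 ∈ zpowers w) :
    Nat.card {b : Q // b ∈ zpowers w ∧ b ^ q = b0 ^ q} = Nat.gcd (orderOf w) q := by
  letI : CommGroup (zpowers w) := IsCyclic.commGroup
  rw [← Nat.card_zpowers, ← IsCyclic.card_powMonoidHom_ker]
  refine Nat.card_congr ⟨fun b => ⟨⟨b.1, b.2.1⟩ * ⟨b0, h0⟩⁻¹, ?_⟩,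
    fun c => ⟨(c.1 * ⟨b0, h0⟩ : zpowers w), (c.1 * ⟨b0, h0⟩).2, ?_⟩, fun b => ?_, fun c => ?_⟩
  · rw [MonoidHom.mem_ker, powMonoidHom_apply, mul_pow, inv_pow, mul_inv_eq_one]
    exact Subtype.ext b.2.2
  · have h1 : c.1 ^ q = 1 := c.2
    have h2 : (c.1 * ⟨b0, h0⟩) ^ q = ⟨b0, h0⟩ ^ q := by rw [mul_pow, h1, one_mul]
    exact congrArg Subtype.val h2
  · exact Subtype.ext (inv_mul_cancel_right _ _)
  · exact Subtype.ext (Subtype.ext (mul_inv_cancel_right _ _))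

theorem dvd_cc {d u v : ℕ} (hn : d * u ≠ 0) (hN : Nat.card N = d * v) {z : G ⧸ N}
    (hz : z ^ u = 1) : d ∣ cc N (d * u) z := by
  rw [Nat.dvd_iff_prime_pow_dvd_dvd]
  intro p a hp hpa
  obtain ⟨s, m, hm, hsm⟩ := Nat.exists_eq_pow_mul_and_not_dvd hn p hp.ne_one
  obtain ⟨e, k, hk, hek⟩ := Nat.exists_eq_pow_mul_and_not_dvd (orderOf_pos z).ne' p hp.ne_one
  have hku : orderOf z ∣ u := orderOf_dvd_of_pow_eq_one hz
  have hpk : p.Coprime k := (Nat.Prime.coprime_iff_not_dvd hp).2 hk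
  have hae : p ^ (a + e) ∣ p ^ s := by
    have h1 : p ^ (a + e) ∣ p ^ s * m := by
      rw [← hsm, pow_add]
      exact Nat.mul_dvd_mul hpa ((Dvd.intro _ hek.symm).trans hku)
    exact (((Nat.Prime.coprime_iff_not_dvd hp).2 hm).pow_left _).dvd_of_dvd_mul_right h1
  have haN : p ^ a ∣ Nat.card N := hN ▸ hpa.mul_right v
  have hfib : ∀ b : G ⧸ N, Nat.card {y : {y : G // y ^ (p ^ s * m) = 1} //
      ((y : G) : G ⧸ N) = b} = cc N (d * u) b := fun b => by
    rw [hsm]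
    exact Nat.card_congr ⟨fun y => ⟨y.1.1, y.2, y.1.2⟩, fun y => ⟨⟨y.1, y.2.2⟩, y.2.1⟩,
      fun _ => rfl, fun _ => rfl⟩
  have hgen : ∀ b, b ∈ zpowers z → b ^ p ^ s = z ^ p ^ s → (e ≠ 0 → b ∉ zpowers (z ^ p)) →
      cc N (d * u) b = cc N (d * u) z := by
    intro b hb h1 h2
    obtain ⟨t, rfl⟩ := (mem_powers_iff_mem_zpowers.2 hb)
    refine cc_eq hn (Nat.coprime_of_dvd fun r hr hrt hrz => ?_)
    by_cases hrp : r = p
    · subst hrp
      obtain ⟨c, rfl⟩ := hrt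
      refine h2 (fun h => ?_) (by
        show z ^ (r * c) ∈ _
        rw [pow_mul]; exact npow_mem_zpowers _ _)
      rw [hek, h, pow_zero, one_mul] at hrz
      exact hk hrz
    · have h3 : t * p ^ s ≡ p ^ s [MOD orderOf z] := by
        rw [← pow_eq_pow_iff_modEq, pow_mul]; exact h1
      have h4 : r ∣ p ^ s := ((h3.of_dvd hrz).dvd_iff (dvd_refl r)).1 (hrt.mul_right _)
      exact hrp ((Nat.prime_dvd_prime_iff_eq hr hp).1 (hr.dvd_of_dvd_pow h4))
  have hT := gcd_dvd_T (N := N) (p ^ s) m z (z ^ p ^ s)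
  have hB := card_root (p ^ s) (mem_zpowers z)
  have hes : e ≤ s := le_trans (Nat.le_add_left e a)
    ((Nat.pow_dvd_pow_iff_le_right hp.one_lt).1 hae)
  have hg : ∀ f ≤ s, Nat.gcd (p ^ f * k) (p ^ s) = p ^ f := fun f hf => by
    rw [(hpk.symm.pow_right s).gcd_mul_right_cancel, Nat.gcd_eq_left (pow_dvd_pow p hf)]
  rw [hek, hg e hes] at hB
  rcases Nat.eq_zero_or_pos e with rfl | he
  · rw [H81.card_preimage_eq_mul (fun b : G ⧸ N => b ∈ zpowers z ∧ b ^ p ^ s = z ^ p ^ s)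
      (fun y : {y : G // y ^ (p ^ s * m) = 1} => ((y : G) : G ⧸ N)) (cc N (d * u) z)
      (fun b hb => (hfib b).trans (hgen b hb.1 hb.2 (fun h => absurd rfl h))), hB, pow_zero,
      one_mul] at hT
    exact (Nat.dvd_gcd hae (haN.mul_left _)).trans hT
  obtain ⟨f, rfl⟩ : ∃ f, e = f + 1 := ⟨e - 1, by omega⟩
  have hzp : orderOf (z ^ p) = p ^ f * k := by
    rw [orderOf_pow_of_dvd hp.ne_zero (by rw [hek, pow_succ', mul_assoc]; exact Dvd.intro _ rfl),
      hek, pow_succ', mul_assoc, Nat.mul_div_cancel_left _ hp.pos]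
  have hT1 := gcd_dvd_T (N := N) (p ^ s) m (z ^ p) (z ^ p ^ s)
  obtain ⟨t, ht1, ht2⟩ := Nat.chineseRemainder hpk 0 1
  obtain ⟨c, rfl⟩ := Nat.modEq_zero_iff_dvd.1 ht1
  have hb0 : (z ^ (p * c)) ^ p ^ s = z ^ p ^ s := by
    rw [← pow_mul, pow_eq_pow_iff_modEq, hek, ← Nat.modEq_and_modEq_iff_modEq_mul (hpk.pow_left _)]
    constructor
    · exact ((Nat.modEq_zero_iff_dvd.2 ((pow_dvd_pow p hes).mul_left _)).trans
        (Nat.modEq_zero_iff_dvd.2 (pow_dvd_pow p hes)).symm)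
    · simpa using ht2.mul_right (p ^ s)
  have hB1 := card_root (p ^ s) (w := z ^ p) (b0 := z ^ (p * c))
    (by rw [pow_mul]; exact npow_mem_zpowers _ _)
  rw [hzp, hg f (by omega), hb0] at hB1
  have hle : zpowers (z ^ p) ≤ zpowers z := zpowers_le.2 (npow_mem_zpowers _ _)
  have e1 := H81.card_add_card_not (fun b : G ⧸ N => b ∈ zpowers z ∧ b ^ p ^ s = z ^ p ^ s)
    (fun b => b ∈ zpowers (z ^ p))
  have e2 := H81.card_add_card_not (fun y : {y : G // y ^ (p ^ s * m) = 1} =>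
    ((y : G) : G ⧸ N) ∈ zpowers z ∧ ((y : G) : G ⧸ N) ^ p ^ s = z ^ p ^ s)
    (fun y => ((y : G) : G ⧸ N) ∈ zpowers (z ^ p))
  have e3 : ∀ b : G ⧸ N, ((b ∈ zpowers z ∧ b ^ p ^ s = z ^ p ^ s) ∧ b ∈ zpowers (z ^ p)) ↔
      (b ∈ zpowers (z ^ p) ∧ b ^ p ^ s = z ^ p ^ s) :=
    fun b => ⟨fun h => ⟨h.2, h.1.2⟩, fun h => ⟨⟨hle h.1, h.2⟩, h.1⟩⟩
  simp only [e3] at e1 e2
  rw [H81.card_preimage_eq_mul (fun b : G ⧸ N => (b ∈ zpowers z ∧ b ^ p ^ s = z ^ p ^ s) ∧
      b ∉ zpowers (z ^ p))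
      (fun y : {y : G // y ^ (p ^ s * m) = 1} => ((y : G) : G ⧸ N)) (cc N (d * u) z)
      (fun b hb => (hfib b).trans (hgen b hb.1.1 hb.1.2 (fun _ => hb.2)))] at e2
  rw [hB, hB1] at e1
  have h1 : p ^ (a + f) ∣ p ^ s := (pow_dvd_pow p (by omega)).trans hae
  have h2 : p ^ (a + f) ∣ orderOf (z ^ p) * Nat.card N := by
    rw [hzp, pow_add, mul_comm]
    exact Nat.mul_dvd_mul (Dvd.intro _ rfl) haN
  have h3 : p ^ (a + f) ∣ orderOf z * Nat.card N := by
    rw [hek, pow_add, mul_comm]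
    exact Nat.mul_dvd_mul ((pow_dvd_pow p (Nat.le_succ f)).mul_right _) haN
  have h4 := (Nat.dvd_gcd h1 h2).trans hT1
  have h5 := (Nat.dvd_gcd h1 h3).trans hT
  rw [← e2] at h5
  have h6 := (Nat.dvd_add_right h4).1 h5
  obtain ⟨r, hr⟩ : ∃ r, p = r + 1 := ⟨p - 1, by have := hp.pos; omega⟩
  have h7 : p ^ (f + 1) = p ^ f + p ^ f * r := by rw [pow_succ]; nth_rw 2 [hr]; ring
  rw [h7, Nat.add_left_cancel_iff] at e1
  rw [e1, pow_add, mul_comm, mul_assoc] at h6
  have h8 := Nat.dvd_of_mul_dvd_mul_left (pow_pos hp.pos f) h6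
  refine (Nat.Coprime.pow_left a ?_).dvd_of_dvd_mul_left h8
  rw [hr]; simp

theorem le_cc {d u v : ℕ} (hn : d * u ≠ 0) (hN : Nat.card N = d * v) (huv : u.Coprime v)
    {z : G ⧸ N} (hz : z ^ u = 1) : d ≤ cc N (d * u) z := by
  refine Nat.le_of_dvd ?_ (dvd_cc hn hN hz)
  obtain ⟨g, rfl⟩ := QuotientGroup.mk_surjective z
  obtain ⟨x, -, hx, hxo⟩ := H82.exists_coprime_lift (QuotientGroup.mk' N) (n := v) g
    (huv.coprime_dvd_left (orderOf_dvd_of_pow_eq_one hz))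
  have hx' : (x : G ⧸ N) = g := hx
  refine Nat.card_pos_iff.2 ⟨⟨⟨x, hx', ?_⟩⟩, inferInstance⟩
  have h1 : x ^ u ∈ N := (QuotientGroup.eq_one_iff _).1 (by rw [QuotientGroup.mk_pow, hx', hz])
  have h2 : x ^ (d * u * v) = 1 := by
    have := pow_card_eq_one' (x := (⟨_, h1⟩ : N))
    rw [hN] at this
    rw [mul_comm d u, mul_assoc, pow_mul]
    exact congrArg Subtype.val this
  exact orderOf_dvd_iff_pow_eq_one.1 (hxo.dvd_of_dvd_mul_right (orderOf_dvd_of_pow_eq_one h2))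

theorem red {d u v : ℕ} (hn : d * u ∣ Nat.card G) (hN : Nat.card N = d * v) (huv : u.Coprime v)
    (h : ell G (d * u) = d * u) : u ∣ Nat.card (G ⧸ N) ∧ ell N d = d ∧ ell (G ⧸ N) u = u := by
  classical
  have hn0 : 0 < d * u := Nat.pos_of_dvd_of_pos hn Nat.card_pos
  have hd0 : 0 < d := Nat.pos_of_mul_pos_right hn0
  have hu : u ∣ Nat.card (G ⧸ N) := by
    rw [card_eq_card_quotient_mul_card_subgroup N, hN, mul_comm, mul_comm d v, ← mul_assoc] at hn
    exact huv.dvd_of_dvd_mul_right (Nat.dvd_of_mul_dvd_mul_right hd0 hn)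
  haveI := Fintype.ofFinite G
  haveI := Fintype.ofFinite (G ⧸ N)
  have h1 : ∑ z : G ⧸ N, cc N (d * u) z = d * u := by
    refine Eq.trans ?_ h
    rw [ell, Nat.card_eq_fintype_card, Fintype.card_subtype,
      Finset.card_eq_sum_card_fiberwise (f := fun y : G => (y : G ⧸ N)) (t := Finset.univ)
        (fun _ _ => Finset.mem_univ _)]
    refine Finset.sum_congr rfl fun z _ => ?_
    rw [cc, Nat.card_eq_fintype_card, Fintype.card_subtype, Finset.filter_filter]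
    congr 1
    ext y; simp [and_comm]
  set T := Finset.univ.filter fun z : G ⧸ N => z ^ u = 1 with hT
  have hTc : T.card = ell (G ⧸ N) u := by
    rw [ell, Nat.card_eq_fintype_card, Fintype.card_subtype]
  have h1T : (1 : G ⧸ N) ∈ T := by simp [hT]
  have h2 : ∑ z ∈ T, cc N (d * u) z ≤ d * u :=
    (Finset.sum_le_sum_of_subset (Finset.subset_univ _)).trans h1.le
  rw [← Finset.add_sum_erase _ _ h1T] at h2
  have h3 := Finset.card_nsmul_le_sum (T.erase 1) (cc N (d * u)) d (fun z hz =>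
    le_cc hn0.ne' hN huv (Finset.mem_filter.1 (Finset.mem_of_mem_erase hz)).2)
  rw [Finset.card_erase_of_mem h1T, hTc, smul_eq_mul] at h3
  replace h2 : cc N (d * u) 1 + (ell (G ⧸ N) u - 1) * d ≤ d * u :=
    (Nat.add_le_add_left h3 _).trans h2
  clear h1 h3
  have h4 := le_ell hu
  have h5 : ell N d ≤ cc N (d * u) 1 :=
    Nat.card_le_card_of_injective (fun y => ⟨y.1.1, (QuotientGroup.eq_one_iff _).2 y.1.2, by
      rw [pow_mul, ← coe_pow, y.2]; simp⟩) fun a b h => Subtype.ext (Subtype.ext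
        (congrArg (fun y => y.1) h))
  have h6 : d ≤ ell N d := le_ell (hN ▸ Dvd.intro _ rfl)
  obtain ⟨w, hw⟩ : ∃ w, ell (G ⧸ N) u = w + 1 := ⟨_, (Nat.sub_add_cancel (ell_pos u)).symm⟩
  rw [hw] at h2 h4 ⊢
  rw [Nat.add_sub_cancel] at h2
  have h7 : d * u ≤ d * (w + 1) := Nat.mul_le_mul_left d h4
  have h8 : d * (w + 1) ≤ d * u := by rw [mul_add, mul_one, mul_comm d w]; omega
  refine ⟨hu, ?_, le_antisymm (Nat.le_of_mul_le_mul_left h8 hd0) h4⟩
  rw [mul_add, mul_one, mul_comm d w] at h7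
  omega

end Coset

/-- every simple quotient of a subnormal subgroup has the property -/
def CF (G : Type u) [Group G] : Prop :=
  ∀ H : Subgroup G, H.IsSubnormal → ∀ (X : Type u) [Group X] (f : H →* X),
    Function.Surjective f → IsSimpleGroup X → FrS X

theorem CF.sub {G : Type u} [Group G] (h : CF G) (K : Subgroup G) [hK : K.Normal] : CF K :=
  fun H hH X _ f hf hX => h (H.map K.subtype) (hH.trans' hK.isSubnormal) X
    (f.comp (H.equivMapOfInjective _ K.subtype_injective).symm.toMonoidHom)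
    (hf.comp (MulEquiv.surjective _)) hX

theorem CF.quot {G : Type u} [Group G] (h : CF G) (K : Subgroup G) [K.Normal] : CF (G ⧸ K) :=
  fun H hH X _ f hf hX => h (H.comap (QuotientGroup.mk' K)) (hH.comap _) X
    (f.comp ((QuotientGroup.mk' K).subgroupComap H))
    (hf.comp (MonoidHom.subgroupComap_surjective_of_surjective _ _
      (QuotientGroup.mk'_surjective K))) hX

theorem frob_of_CF (G : Type u) [Group G] [Finite G] : CF G → ∀ n, n ∣ Nat.card G →
    ell G n = n → ∃ H : Subgroup G, Nat.card H = n := by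
  refine H2.card_induction (P := fun G _ _ => CF G → ∀ n, n ∣ Nat.card G →
    ell G n = n → ∃ H : Subgroup G, Nat.card H = n) G ?_
  intro G _ _ ih hG n hn h
  by_cases hs : ∀ N : Subgroup G, N.Normal → N = ⊥ ∨ N = ⊤
  · rcases subsingleton_or_nontrivial G with h1 | h1
    · rw [Nat.card_of_subsingleton (1 : G), Nat.dvd_one] at hn
      exact ⟨⊥, by rw [hn, card_bot]⟩
    · rcases hG ⊤ IsSubnormal.top G (⊤ : Subgroup G).subtype
        (fun x => ⟨⟨x, mem_top x⟩, rfl⟩) ⟨hs⟩ n hn h with h2 | h2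
      · exact ⟨⊥, by rw [h2, card_bot]⟩
      · exact ⟨⊤, by rw [h2, card_top]⟩
  push Not at hs
  obtain ⟨N, hNn, hN1, hN2⟩ := hs
  have hn0 : 0 < n := Nat.pos_of_dvd_of_pos hn Nat.card_pos
  obtain ⟨d, u, v, rfl, hv, huv⟩ : ∃ d u v, n = d * u ∧ Nat.card N = d * v ∧ u.Coprime v :=
    ⟨_, n / n.gcd (Nat.card N), Nat.card N / n.gcd (Nat.card N),
      (Nat.mul_div_cancel' (Nat.gcd_dvd_left _ _)).symm,
      (Nat.mul_div_cancel' (Nat.gcd_dvd_right _ _)).symm,
      Nat.coprime_div_gcd_div_gcd (Nat.gcd_pos_of_pos_left _ hn0)⟩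
  obtain ⟨h1, h2, h3⟩ := red hn hv huv h
  by_cases hd : d = 1
  · subst hd
    rw [one_mul] at *
    obtain ⟨M, hM⟩ := ih _ (H2.card_quotient_lt N hN1) (hG.quot N) u h1 h3
    have hle := QuotientGroup.le_comap_mk' N M
    have hH := H1.card_comap_mk' N M
    generalize M.comap (QuotientGroup.mk' N) = H at hle hH
    have hc : Nat.card (N.subgroupOf H) = Nat.card N := H2.card_subgroupOf_of_le hle
    have hi : (N.subgroupOf H).index = u := by
      have := (N.subgroupOf H).index_mul_card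
      rw [hH, hc, hM] at this
      exact Nat.eq_of_mul_eq_mul_right Nat.card_pos this
    obtain ⟨L, hL⟩ := exists_right_complement'_of_coprime (N := N.subgroupOf H)
      (by rw [hc, hi, hv]; exact huv.symm)
    exact ⟨L.map H.subtype, by
      rw [card_map_of_injective H.subtype_injective, ← hi, hL.symm.index_eq_card]⟩
  obtain ⟨K0, hK0⟩ := ih _ (H2.card_lt_of_ne_top hN2) (hG.sub N) d (hv ▸ Dvd.intro _ rfl) h2
  have hK1 := eq_of_card h2 K0 hK0
  have hmem : ∀ x, x ∈ K0.map N.subtype ↔ x ∈ N ∧ x ^ d = 1 := by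
    intro x
    constructor
    · rintro ⟨y, hy, rfl⟩
      rw [hK1] at hy
      exact ⟨y.2, congrArg Subtype.val hy⟩
    · rintro ⟨hx, hx'⟩
      refine ⟨⟨x, hx⟩, ?_, rfl⟩
      rw [hK1]; exact Subtype.ext hx'
  have hK2 : Nat.card (K0.map N.subtype) = d * 1 := by
    rw [card_map_of_injective N.subtype_injective, hK0, mul_one]
  generalize K0.map N.subtype = K at hmem hK2
  haveI : K.Normal := ⟨fun x hx g => (hmem _).2 ⟨hNn.conj_mem x ((hmem x).1 hx).1 g, by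
    rw [conj_pow, ((hmem x).1 hx).2]; simp⟩⟩
  obtain ⟨h4, -, h5⟩ := red hn hK2 (Nat.coprime_one_right u) h
  have hKb : K ≠ ⊥ := by
    rintro rfl
    rw [card_bot, mul_one] at hK2
    exact hd hK2.symm
  obtain ⟨M, hM⟩ := ih _ (H2.card_quotient_lt K hKb) (hG.quot K) u h4 h5
  exact ⟨M.comap (QuotientGroup.mk' K), by rw [H1.card_comap_mk', hM, hK2, mul_one, mul_comm]⟩

end Cfsg.Agent.H66.Fr
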