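import Mathlib
import Cfsg.Agent.H66.DoubleCount

/-! The Jacobi-Trudi identity, and the orthogonality relation for alternating sums of the numbers
of natural matrices with given row and column sums. -/

namespace Cfsg.Agent.H66

open Matrix Equiv MvPolynomial

variable {n : ℕ}

/-- Generating series of the complete homogeneous symmetric polynomials. -/
noncomputable def hSeries (n : ℕ) : PowerSeries (MvPolynomial (Fin n) ℤ) :=
  ∏ l : Fin n, PowerSeries.mk fun m => (X l : MvPolynomial (Fin n) ℤ) ^ m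

/-- Complete homogeneous symmetric polynomials. -/
noncomputable def hPoly (n m : ℕ) : MvPolynomial (Fin n) ℤ := PowerSeries.coeff m (hSeries n)

theorem hPoly_eq (m : ℕ) :
    hPoly n m = ∑ l ∈ Finset.finsuppAntidiag (Finset.univ : Finset (Fin n)) m, monomial l 1 := by
  unfold hPoly hSeries
  rw [PowerSeries.coeff_prod]
  apply Finset.sum_congr rfl
  intro l _
  simp only [PowerSeries.coeff_mk]
  rw [monomial_eq, C_1, one_mul, Finsupp.prod_fintype _ _ (fun i => pow_zero _)]

theorem hPoly_zero : hPoly n 0 = 1 := by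
  rw [hPoly_eq]; simp

theorem coeff_prod_hPoly (α β : Fin n → ℕ) :
    coeff (Finsupp.equivFunOnFinite.symm α) (∏ t, hPoly n (β t)) = (Nat.card (NatMat α β) : ℤ) := by
  classical
  simp only [hPoly_eq]
  rw [Finset.prod_univ_sum, coeff_sum]
  have h1 : ∀ c : Fin n → (Fin n →₀ ℕ),
      (∏ t, monomial (c t) (1 : ℤ) : MvPolynomial (Fin n) ℤ) = monomial (∑ t, c t) 1 := by
    intro c
    rw [monomial_sum_one]
  simp only [h1, coeff_monomial]
  rw [Finset.sum_boole]
  congr 1
  rw [← Nat.card_eq_finsetCard]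
  apply Nat.card_congr
  refine
    { toFun := fun c => ⟨fun s t => c.1 t s, ?_, ?_⟩
      invFun := fun N => ⟨fun t => Finsupp.equivFunOnFinite.symm fun s => N.1 s t, ?_⟩
      left_inv := ?_
      right_inv := ?_ }
  · intro s
    have := (Finset.mem_filter.mp c.2).2
    have h2 := congrArg (fun f : Fin n →₀ ℕ => f s) this
    simpa [Finsupp.finsetSum_apply] using h2
  · intro t
    have := Fintype.mem_piFinset.mp (Finset.mem_filter.mp c.2).1 t
    rw [Finset.mem_finsuppAntidiag] at this
    exact this.1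
  · rw [Finset.mem_filter, Fintype.mem_piFinset]
    constructor
    · intro t
      rw [Finset.mem_finsuppAntidiag]
      exact ⟨by simpa using N.2.2 t, Finset.subset_univ _⟩
    · ext s
      simpa [Finsupp.finsetSum_apply] using N.2.1 s
  · intro c
    apply Subtype.ext
    funext t
    ext s
    simp
  · intro N
    apply Subtype.ext
    funext s t
    simp

/-- The polynomial `∏_{l ≠ k} (1 - x_l t)`. -/
noncomputable def ePoly (k : Fin n) : Polynomial (MvPolynomial (Fin n) ℤ) :=
  ∏ l ∈ Finset.univ.erase k, (1 - Polynomial.C (X l) * Polynomial.X)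

theorem ePoly_coeff_eq_zero (k : Fin n) (r : ℕ) (hr : n ≤ r) : (ePoly k).coeff r = 0 := by
  apply Polynomial.coeff_eq_zero_of_natDegree_lt
  unfold ePoly
  refine lt_of_le_of_lt (Polynomial.natDegree_prod_le _ _) ?_
  have : ∑ l ∈ Finset.univ.erase k,
      (1 - Polynomial.C (X l : MvPolynomial (Fin n) ℤ) * Polynomial.X).natDegree ≤
      ∑ _l ∈ Finset.univ.erase k, 1 := by
    apply Finset.sum_le_sum
    intro l _
    compute_degree
  refine lt_of_le_of_lt this ?_
  have := k.pos
  simp only [Finset.sum_const, Finset.card_erase_of_mem (Finset.mem_univ k), Finset.card_univ,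
    Fintype.card_fin, smul_eq_mul, mul_one]
  omega

theorem geom_mul_one_sub {R : Type*} [CommRing R] (x : R) :
    (1 - PowerSeries.C x * PowerSeries.X) * (PowerSeries.mk fun m => x ^ m) = 1 := by
  ext m
  rw [sub_mul, one_mul, map_sub, mul_assoc, PowerSeries.coeff_C_mul, PowerSeries.coeff_mk]
  cases m with
  | zero => simp
  | succ m =>
    rw [PowerSeries.coeff_succ_X_mul, PowerSeries.coeff_mk, PowerSeries.coeff_one, if_neg (by omega)]
    ring

theorem ePoly_mul_hSeries (k : Fin n) :
    (ePoly k : PowerSeries (MvPolynomial (Fin n) ℤ)) * hSeries n =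
      PowerSeries.mk fun m => (X k : MvPolynomial (Fin n) ℤ) ^ m := by
  have h1 : (ePoly k : PowerSeries (MvPolynomial (Fin n) ℤ)) =
      ∏ l ∈ Finset.univ.erase k, (1 - PowerSeries.C (X l) * PowerSeries.X) := by
    unfold ePoly
    rw [← Polynomial.coeToPowerSeries.ringHom_apply, map_prod]
    apply Finset.prod_congr rfl
    intro l _
    simp
  unfold hSeries
  rw [h1, ← Finset.mul_prod_erase Finset.univ _ (Finset.mem_univ k), mul_left_comm,
    ← Finset.prod_mul_distrib, Finset.prod_eq_one (fun l _ => geom_mul_one_sub _), mul_one]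

/-- The Jacobi-Trudi matrix. -/
noncomputable def jtMat (μ : Fin n → ℕ) : Matrix (Fin n) (Fin n) (MvPolynomial (Fin n) ℤ) :=
  Matrix.of fun r t => if r.val ≤ μ t then hPoly n (μ t - r) else 0

/-- The matrix of powers of the variables. -/
noncomputable def powMat (μ : Fin n → ℕ) : Matrix (Fin n) (Fin n) (MvPolynomial (Fin n) ℤ) :=
  Matrix.of fun k t => X k ^ μ t

theorem eMat_mul_jtMat (μ : Fin n → ℕ) :
    (Matrix.of fun (k r : Fin n) => (ePoly k).coeff r) * jtMat μ = powMat μ := by
  ext1 k t
  have h := congrArg (PowerSeries.coeff (μ t)) (ePoly_mul_hSeries k)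
  rw [PowerSeries.coeff_mk, PowerSeries.coeff_mul,
    Finset.Nat.sum_antidiagonal_eq_sum_range_succ_mk] at h
  simp only [Polynomial.coeff_coe] at h
  rw [Matrix.mul_apply]
  simp only [jtMat, powMat, Matrix.of_apply]
  rw [← h, Fin.sum_univ_eq_sum_range
    (fun r => (ePoly k).coeff r * if r ≤ μ t then hPoly n (μ t - r) else 0) n]
  have e1 : ∑ r ∈ Finset.range n ∩ Finset.range (μ t).succ, (ePoly k).coeff r * hPoly n (μ t - r) =
      ∑ r ∈ Finset.range (μ t).succ, (ePoly k).coeff r * hPoly n (μ t - r) := by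
    apply Finset.sum_subset Finset.inter_subset_right
    intro r hr hr'
    rw [ePoly_coeff_eq_zero k r, zero_mul]
    by_contra hlt
    exact hr' (Finset.mem_inter.mpr ⟨Finset.mem_range.mpr (not_le.mp hlt), hr⟩)
  change _ = ∑ r ∈ Finset.range (μ t).succ, (ePoly k).coeff r * hPoly n (μ t - r)
  rw [← e1, ← Finset.filter_mem_eq_inter, Finset.sum_filter]
  apply Finset.sum_congr rfl
  intro r _
  simp only [Finset.mem_range, Nat.lt_succ_iff]
  split_ifs <;> simp

theorem det_jtMat_delta : (jtMat fun t : Fin n => t.val).det = 1 := by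
  rw [Matrix.det_of_isUpperTriangular]
  · simp [jtMat, hPoly_zero]
  · intro i j hij
    simp only [jtMat, Matrix.of_apply]
    rw [if_neg]
    exact not_le.mpr hij

theorem jacobi_trudi (μ : Fin n → ℕ) :
    (powMat fun t : Fin n => t.val).det * (jtMat μ).det = (powMat μ).det := by
  rw [← eMat_mul_jtMat, ← eMat_mul_jtMat, Matrix.det_mul, Matrix.det_mul, det_jtMat_delta, mul_one]

theorem det_powMat (μ : Fin n → ℕ) :
    (powMat μ).det = ∑ σ : Perm (Fin n),
      monomial (Finsupp.equivFunOnFinite.symm fun k => μ (σ k)) ((Perm.sign σ : ℤ)) := by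
  rw [← Matrix.det_transpose, Matrix.det_apply']
  apply Finset.sum_congr rfl
  intro σ _
  rw [monomial_eq, Finsupp.prod_fintype _ _ (fun i => pow_zero _)]
  simp [powMat]

theorem det_jtMat (μ : Fin n → ℕ) :
    (jtMat μ).det = ∑ κ : Perm (Fin n), if ∀ t, (κ t).val ≤ μ t then
      C ((Perm.sign κ : ℤ)) * ∏ t, hPoly n (μ t - κ t) else 0 := by
  rw [Matrix.det_apply']
  apply Finset.sum_congr rfl
  intro κ _
  split_ifs with h
  · simp [jtMat, h]
  · push Not at h
    obtain ⟨t, ht⟩ := h
    rw [Finset.prod_eq_zero (f := fun i => jtMat μ (κ i) i) (Finset.mem_univ t), mul_zero]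
    simp [jtMat, ht]

/-- Orthogonality relation. -/
theorem alt_sum_natMat (l m : Fin n → ℕ) :
    (∑ κ : Perm (Fin n), ∑ κ' : Perm (Fin n),
      if (∀ i, (κ i).val ≤ l i) ∧ (∀ i, (κ' i).val ≤ m i) then
        (Perm.sign κ : ℤ) * (Perm.sign κ' : ℤ) *
          (Nat.card (NatMat (fun i => l i - κ i) (fun i => m i - κ' i)) : ℤ) else 0) =
      ∑ σ : Perm (Fin n), if (fun k => m (σ k)) = l then (Perm.sign σ : ℤ) else 0 := by
  have h := congrArg (coeff (Finsupp.equivFunOnFinite.symm l)) (jacobi_trudi m)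
  rw [det_powMat, det_powMat, Finset.sum_mul, coeff_sum, coeff_sum] at h
  simp only [coeff_monomial, EmbeddingLike.apply_eq_iff_eq] at h
  rw [← h]
  apply Finset.sum_congr rfl
  intro κ _
  rw [coeff_monomial_mul']
  have hle : ((Finsupp.equivFunOnFinite.symm fun k => (κ k).val) ≤
      (Finsupp.equivFunOnFinite.symm l : Fin n →₀ ℕ)) ↔ ∀ i, (κ i).val ≤ l i := by
    simp [Finsupp.le_def]
  by_cases hκ : ∀ i, (κ i).val ≤ l i
  · rw [if_pos (hle.mpr hκ), det_jtMat, coeff_sum, Finset.mul_sum]
    apply Finset.sum_congr rfl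
    intro κ' _
    by_cases hκ' : ∀ i, (κ' i).val ≤ m i
    · rw [if_pos ⟨hκ, hκ'⟩, if_pos hκ', coeff_C_mul, ← coeff_prod_hPoly, mul_assoc]
      congr 3
      ext i
      simp
    · rw [if_neg (fun h => hκ' h.2), if_neg hκ']
      simp
  · rw [if_neg (fun h => hκ (hle.mp h))]
    apply Finset.sum_eq_zero
    intro κ' _
    rw [if_neg (fun h => hκ h.1)]

theorem sum_sign_strictMono {l m : Fin n → ℕ} (hl : StrictMono l) (hm : StrictMono m) :
    (∑ σ : Perm (Fin n), if (fun k => m (σ k)) = l then (Perm.sign σ : ℤ) else 0) =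
      if m = l then 1 else 0 := by
  have key : ∀ σ : Perm (Fin n), (fun k => m (σ k)) = l → σ = 1 := by
    intro σ h
    have hs : StrictMono σ := by
      intro a b hab
      have := hl hab
      rw [← h] at this
      exact hm.lt_iff_lt.mp this
    have := Subsingleton.elim (hs.orderIsoOfSurjective σ σ.surjective) (OrderIso.refl _)
    ext x
    exact congrArg (fun e : Fin n ≃o Fin n => (e x).val) this
  rw [Finset.sum_eq_single 1]
  · simp
  · intro σ _ hσ
    rw [if_neg (fun h => hσ (key σ h))]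
  · intro h; exact absurd (Finset.mem_univ _) h

end Cfsg.Agent.H66
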