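import Cfsg.Agent.H66.PnDbl
import Cfsg.Agent.H66.SL2Core
import Cfsg.Agent.H23.PglTor
import Cfsg.Agent.H85.SqC
import Cfsg.Agent.H64.SymSylow

/-!
Sylow two-subgroups of linear and unitary groups of two-power degree in odd characteristic.
-/

set_option autoImplicit false
set_option linter.unusedSectionVars false

namespace Cfsg.Agent.H66.Pn

open Matrix Matrix.ProjGenLinGroup
open scoped MatrixGroups

variable {F : Type*} [Field F]

theorem eq_one_of_norm (h2 : (2 : F) ≠ 0) {T : Subgroup PGL(2, F)} [Finite T] (hT : IsPGroup 2 T)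
    (hc : ¬ ∀ a ∈ T, ∀ b ∈ T, a * b = b * a) {x : PGL(2, F)} {m : ℕ} (ho : x ^ (2 * m + 1) = 1)
    (hx : ∀ a ∈ T, x * a * x⁻¹ ∈ T) : x = 1 := by
  have sq : x * x = 1 → x = 1 := fun e => by rwa [pow_succ, pow_mul, pow_two, e, one_pow, one_mul] at ho
  have hp : ∀ k, ∀ s ∈ T, x ^ k * s * (x ^ k)⁻¹ ∈ T := fun k s s1 => by
    induction k with
    | zero => simpa using s1
    | succ k ih =>
      have := hx _ ih
      rwa [pow_succ', _root_.mul_inv_rev, mul_assoc x, mul_assoc x, ← mul_assoc _ _ x⁻¹,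
        ← mul_assoc x]
  have e1 : x ^ (2 * m) = x⁻¹ := eq_inv_of_mul_eq_one_left (by rw [← pow_succ, ho])
  have : Nontrivial T := (Subgroup.nontrivial_iff_ne_bot T).2 fun e => hc (by simp [e])
  have := hT.center_nontrivial
  obtain ⟨⟨⟨z, z1⟩, z2⟩, z3⟩ := exists_prime_orderOf_dvd_card' (G := Subgroup.center T) 2
    ((hT.to_subgroup _).card_eq_or_dvd.resolve_left Finite.one_lt_card.ne')
  rw [Subgroup.orderOf_mk, Subgroup.orderOf_mk, orderOf_eq_prime_iff, pow_two] at z3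
  have z4 : ∀ s ∈ T, s * z = z * s := fun s hs =>
    congrArg Subtype.val (Subgroup.mem_center_iff.1 z2 ⟨s, hs⟩)
  have e2 : x * z = z * x := by
    have a1 : x * z * x⁻¹ * (x * z * x⁻¹) = 1 := by
      rw [show x * z * x⁻¹ * (x * z * x⁻¹) = x * (z * z) * x⁻¹ by group, z3.1]; simp
    rcases H23.Pgl.comm_cases h2 z3.2 (z4 _ (hx z z1)) with h | h
    · rw [← mul_inv_eq_iff_eq_mul]
      exact (H23.Pgl.eq_or_inv_of_th h2 z3.1 z3.2 (H23.Pgl.self_mem_tor z) h (H23.Pgl.th_conj x z).symm).elim id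
        fun e => e.trans (inv_eq_of_mul_eq_one_left z3.1)
    have a2 : ∀ s ∈ T, s * s = 1 := fun s hs => by
      refine (H23.Pgl.comm_cases h2 z3.2 (z4 s hs)).elim (fun e => ?_) fun e => e.2.1
      have a3 := z4 _ (hp (2 * m) s hs)
      rw [e1] at a3
      rw [mul_eq_one_iff_eq_inv, ← h.2.2 s e, eq_mul_inv_iff_mul_eq]
      calc _ = x * (x⁻¹ * s * x⁻¹⁻¹ * z) * x⁻¹ := by group
        _ = _ := by rw [a3]; group
    exact absurd (fun a ha b hb => by
      rw [← _root_.inv_inj, _root_.mul_inv_rev, inv_eq_of_mul_eq_one_left (a2 a ha),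
        inv_eq_of_mul_eq_one_left (a2 b hb), inv_eq_of_mul_eq_one_left (a2 _ (mul_mem hb ha))]) hc
  refine (H23.Pgl.comm_cases h2 z3.2 e2).elim (fun h => ?_) fun h => sq h.2.1
  obtain ⟨s, s1, s2⟩ : ∃ s ∈ T, s ∉ H23.Pgl.tor z := by
    by_contra hn
    push Not at hn
    refine hc fun a ha b hb => ?_
    by_cases b1 : b = 1
    · simp [b1]
    · exact H23.Pgl.comm_of_mem_tor (H23.Pgl.tor_eq z3.2 b1 (hn b hb) ▸ hn a ha)
  have a1 := ((H23.Pgl.comm_cases h2 z3.2 (z4 s s1)).resolve_left s2).2.2 x h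
  have a2 : x * x ∈ T := by
    have := mul_mem (hx s s1) (inv_mem s1)
    rwa [mul_assoc, mul_assoc, ← mul_assoc s, ← inv_inv (s * x⁻¹ * s⁻¹), conj_inv, inv_inv, a1,
      inv_inv] at this
  obtain ⟨k, hk⟩ := hT ⟨_, a2⟩
  exact sq ((pow_eq_one_iff_of_coprime (Nat.Coprime.pow_left k (Nat.coprime_two_left.2 ⟨m, rfl⟩))).1
    ⟨congrArg Subtype.val hk, by rw [(Commute.refl x).mul_pow, ho, one_mul]⟩)

/-- The general linear group or the general unitary group. -/
def Gam (c : Prop) (σ : F →+* F) (ι : Type*) [Fintype ι] [DecidableEq ι] : Subgroup (GL ι F) where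
  carrier := {g | c → g.1ᵀ * g.1.map σ = 1}
  one_mem' _ := by simp
  mul_mem' {a b} ha hb hc := by
    rw [Units.val_mul, transpose_mul, Matrix.map_mul, mul_assoc, ← mul_assoc a.1ᵀ, ha hc, one_mul,
      hb hc]
  inv_mem' {a} ha hc := by
    rw [← one_mul (a⁻¹.1.map σ), ← ha hc, mul_assoc, ← Matrix.map_mul, Units.mul_inv,
      Matrix.map_one _ (map_zero σ) (map_one σ), mul_one, ← transpose_mul, Units.mul_inv,
      transpose_one, ha hc]

variable {c : Prop} {σ : F →+* F}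

theorem dbl_le {ι : Type*} [Fintype ι] [DecidableEq ι] {T : Subgroup (GL ι F)} (h : T ≤ Gam c σ ι) :
    dbl T ≤ Gam c σ _ := by
  have h1 : ∀ a ∈ T, ∀ b ∈ T, dg (a, b) ∈ Gam c σ _ := fun a ha b hb hc => by
    simp [dg_val, fromBlocks_transpose, fromBlocks_map, fromBlocks_multiply, h ha hc, h hb hc]
  rintro _ ⟨a, ha, b, hb, rfl | rfl⟩
  · exact h1 a ha b hb
  · exact mul_mem (h1 a ha b hb) fun _ => by
      simp [sw_val, fromBlocks_transpose, fromBlocks_map, fromBlocks_multiply]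

theorem exists_good [Finite F] (h2 : (2 : F) ≠ 0) {α β γ : F} (h : α ^ 2 + β ^ 2 = -1) (h0 : γ ≠ 0)
    (hc : c → σ α = -α ∧ σ β = -β ∧ 2 * γ * σ γ = 1) : ∃ T ≤ Gam c σ (Fin 2), Good T ∧
      Nat.card T = 2 ^ (Nat.card (Gam c σ (Fin 2))).factorization 2 := by
  let i : GL (Fin 2) F := .mkOfDetNeZero !![0, -1; 1, 0] (by simp)
  let j : GL (Fin 2) F := .mkOfDetNeZero !![α, β; β, -α] (by rw [det_fin_two_of]; grind)
  let k : GL (Fin 2) F := .mkOfDetNeZero !![γ, -γ; γ, γ] (by rw [det_fin_two_of]; grind)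
  have i1 : i.1 = !![0, -1; 1, 0] := rfl
  have j1 : j.1 = !![α, β; β, -α] := rfl
  have k1 : k.1 = !![γ, -γ; γ, γ] := rfl
  have i2 : i * i = -1 := Units.ext (by ext a b; fin_cases a <;> fin_cases b <;> simp [i1])
  have j2 : j * j = -1 := Units.ext (by
    ext a b; fin_cases a <;> fin_cases b <;> simp [j1] <;> grind)
  have ji : j * i = -(i * j) := Units.ext (by
    ext a b; fin_cases a <;> fin_cases b <;> simp [i1, j1])
  have ki : k * i = i * k := Units.ext (by ext a b; fin_cases a <;> fin_cases b <;> simp [i1, k1])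
  have kj : k * j = i * j * k := Units.ext (by
    ext a b; fin_cases a <;> fin_cases b <;> simp [i1, j1, k1] <;> grind)
  have ns : NonSc i.1 := by simp [NonSc, i1]
  have ig : i ∈ Gam c σ _ := fun _ => by
    ext a b; fin_cases a <;> fin_cases b <;> simp [i1, mul2_apply]
  have jg : j ∈ Gam c σ _ := fun e => by
    ext a b; fin_cases a <;> fin_cases b <;> simp [j1, mul2_apply, hc e] <;> grind
  have kg : k ∈ Gam c σ _ := fun e => by
    have := (hc e).2.2
    ext a b; fin_cases a <;> fin_cases b <;> simp [k1, mul2_apply] <;> grind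
  let O : Subgroup (GL (Fin 2) F) :=
    { carrier := {g | Commute g i ∧ g ∈ Gam c σ _ ∧ ∃ n, g ^ 2 ^ n = 1}
      one_mem' := ⟨Commute.one_left _, one_mem _, 0, one_pow _⟩
      mul_mem' := by
        rintro a b ⟨a1, a2, n, a3⟩ ⟨b1, b2, m, b3⟩
        refine ⟨a1.mul_left b1, mul_mem a2 b2, n + m, ?_⟩
        rw [Commute.mul_pow (Units.ext (commute_of_commute_nonSc ns (congrArg Units.val a1.eq)
          (congrArg Units.val b1.eq))), pow_add, pow_mul a, a3, mul_comm, pow_mul b, b3]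
        simp
      inv_mem' := fun ⟨a1, a2, n, a3⟩ => ⟨a1.inv_left, inv_mem a2, n, by rw [inv_pow, a3, inv_one]⟩ }
  have j4 : j ^ 2 ^ 2 = 1 := by rw [pow_two 2, pow_mul, pow_two j, j2, neg_one_sq]
  have hR : IsPGroup 2 (O ⊔ Subgroup.zpowers j : Subgroup _) :=
    IsPGroup.to_sup_of_normal_left' (fun g => g.2.2.2.imp fun _ e => Subtype.ext e)
      (by
        rintro ⟨_, n, rfl⟩
        exact ⟨2, Subtype.ext (by
          show (j ^ n) ^ 2 ^ 2 = 1
          rw [← zpow_natCast, zpow_comm, zpow_natCast, j4, _root_.one_zpow])⟩)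
      (Subgroup.zpowers_le.2 (Subgroup.mem_normalizer_fintype fun g (hg : g ∈ O) => by
        obtain ⟨a1, a2, n, a3⟩ := hg
        refine ⟨?_, mul_mem (mul_mem jg a2) (inv_mem jg), n, by
          rw [conj_pow, a3, mul_one, mul_inv_cancel]⟩
        have : i = j * -i * j⁻¹ := by rw [mul_neg, ji, neg_neg, mul_inv_cancel_right]
        rw [this]
        exact (a1.neg_right.map (MulAut.conj j) :)))
  obtain ⟨Q, hQ⟩ := (hR.comap_subtype (K := Gam c σ (Fin 2))).exists_le_sylow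
  have hT : ∀ g ∈ O ⊔ Subgroup.zpowers j, g ∈ Gam c σ _ → g ∈ Q.1.map (Gam c σ _).subtype :=
    fun g h1 h2 => ⟨⟨g, h2⟩, hQ h1, rfl⟩
  have iT := hT i (Subgroup.mem_sup_left ⟨.refl _, ig, 2, by
    rw [pow_two 2, pow_mul, pow_two i, i2, neg_one_sq]⟩) ig
  have jT := hT j (Subgroup.mem_sup_right (Subgroup.mem_zpowers j)) jg
  obtain ⟨n, m, ⟨m, rfl⟩, hm⟩ := Nat.exists_eq_two_pow_mul_odd (orderOf_pos k).ne'
  have kT := hT (k ^ (2 * m + 1)) (Subgroup.mem_sup_left ⟨Commute.pow_left ki _, pow_mem kg _, n, by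
    rw [← pow_mul, mul_comm, ← hm, pow_orderOf_eq_one]⟩) (pow_mem kg _)
  have di : i.1.det = 1 := by simp [i1]
  have pT := Q.2.map (Gam c σ (Fin 2)).subtype
  refine ⟨_, Subgroup.map_subtype_le _, ⟨pT, fun X hX => ?_, ⟨i, iT, di, i2⟩, fun x ⟨r, hr⟩ hx => ?_⟩,
    by rw [Subgroup.card_subtype, Q.card_eq_multiplicity]⟩
  · have a1 := hX i iT di
    have a2 := hX j jT (by rw [j1, det_fin_two_of]; grind)
    have b1 := congrFun (congrFun a1 0) 0
    have b2 := congrFun (congrFun a1 0) 1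
    have b3 := congrFun (congrFun a2 0) 0
    have b4 := congrFun (congrFun a2 0) 1
    simp [mul2_apply, i1, j1, -mul_eq_mul_left_iff, -mul_eq_mul_right_iff] at b1 b2 b3 b4
    exact ⟨X 0 0, mat2_ext (by simp) (by simp; grind) (by simp; grind) (by simp; grind)⟩
  have : Finite PGL(2, F) := Finite.of_surjective _ mk_surjective
  have := eq_one_of_norm h2 (pT.map mk) (fun hn => ?_) (x := mk x) (m := r)
    (by rw [← map_pow, ← hr, pow_orderOf_eq_one, map_one]) (by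
      rintro _ ⟨a, ha, rfl⟩
      exact ⟨_, hx a ha, by simp⟩)
  · rw [H28.pgl_mk_eq_one_iff] at this
    exact ⟨x 0 0, mat2_ext (by simp) (by simp [this]) (by simp [this]) (by simp [this])⟩
  have a1 := hn _ ⟨_, kT, rfl⟩ _ ⟨_, jT, rfl⟩
  have a2 : ∀ l : ℕ, k ^ l * j = i ^ l * j * k ^ l := fun l => by
    induction l with
    | zero => simp
    | succ l ih =>
      rw [pow_succ', mul_assoc, ih, ← mul_assoc, ← mul_assoc, (Commute.pow_right ki l).eq,
        mul_assoc _ k, kj, pow_succ i]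
      simp only [mul_assoc]
  rw [← map_mul, a2, map_mul, map_mul, mul_left_inj, mul_eq_right, map_pow, pow_succ, pow_mul, pow_two,
    ← map_mul, i2, show mk (-1 : GL (Fin 2) F) = 1 by rw [H28.pgl_mk_eq_one_iff]; simp, one_pow, one_mul,
    H28.pgl_mk_eq_one_iff] at a1
  simp [i] at a1

theorem exists_iter [Finite F] (h2 : (2 : F) ≠ 0) {T : Subgroup (GL (Fin 2) F)} (h1 : T ≤ Gam c σ _)
    (h : Good T) (w : ℕ) : ∃ (ι : Type) (_ : Fintype ι) (_ : DecidableEq ι) (T' : Subgroup (GL ι F)),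
      Fintype.card ι = 2 ^ (w + 1) ∧ T' ≤ Gam c σ ι ∧ Good T' ∧
        (2 * Nat.card T) ^ 2 ^ w ≤ 2 * Nat.card T' := by
  induction w with
  | zero => exact ⟨_, _, _, T, rfl, h1, h, by simp⟩
  | succ w ih =>
    obtain ⟨ι, _, _, T', a1, a2, a3, a4⟩ := ih
    have : Nonempty ι := Fintype.card_pos_iff.1 (a1 ▸ by positivity)
    refine ⟨ι ⊕ ι, _, _, dbl T', by rw [Fintype.card_sum, a1]; ring, dbl_le a2, a3.dbl h2, ?_⟩
    have := card_dbl (T := T')
    rw [pow_succ, pow_mul]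
    exact (Nat.pow_le_pow_left a4 2).trans (by rw [mul_pow]; omega)

theorem exists_fin [Finite F] (h2 : (2 : F) ≠ 0) {T : Subgroup (GL (Fin 2) F)} (h1 : T ≤ Gam c σ _)
    (h : Good T) (w : ℕ) : ∃ T' ≤ Gam c σ (Fin (2 ^ (w + 2))), IsPGroup 2 T' ∧
      (2 * Nat.card T) ^ 2 ^ (w + 1) ≤ 2 * Nat.card T' ∧ ∀ x : GL _ F, Odd (orderOf x) →
        (∀ s ∈ T', s.1.det = 1 → x * s * x⁻¹ ∈ T') → ∃ c : F, x.1 = c • 1 := by
  obtain ⟨ι, _, _, T', a1, a2, a3, a4⟩ := exists_iter h2 h1 h w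
  have : Nonempty ι := Fintype.card_pos_iff.1 (a1 ▸ by positivity)
  let e : ι ⊕ ι ≃ Fin (2 ^ (w + 2)) :=
    Fintype.equivFinOfCardEq (by rw [Fintype.card_sum, a1]; ring)
  let φ := Units.mapEquiv (reindexAlgEquiv F F e).toMulEquiv
  have φ1 : ∀ x, (φ x).1 = reindex e e x.1 := fun _ => rfl
  refine ⟨(dbl T').map φ.toMonoidHom, ?_, (isPGroup_dbl a3.pg).map _, ?_, fun x x1 x2 => ?_⟩
  · rintro _ ⟨g, hg, rfl⟩ hc
    have := congrArg (reindexAlgEquiv F F e) (dbl_le a2 hg hc)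
    rw [map_mul, map_one] at this
    exact this
  · have := card_dbl (T := T')
    rw [Subgroup.card_map_of_injective (f := φ.toMonoidHom) φ.injective, pow_succ, pow_mul]
    refine (Nat.pow_le_pow_left a4 2).trans (le_trans ?_ (Nat.mul_le_mul_left 2 this))
    rw [mul_pow, pow_two 2, mul_assoc]
  · obtain ⟨x, rfl⟩ := φ.surjective x
    obtain ⟨d, hd⟩ := a3.norm_dbl h2 (x := x) (by rwa [φ.orderOf_eq] at x1) fun s s1 s2 => by
      obtain ⟨y, y1, y2⟩ := x2 _ ⟨s, s1, rfl⟩ ((det_reindex_self e _).trans s2)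
      rwa [← φ.injective (y2.trans (by simp) : φ y = φ (x * s * x⁻¹))]
    exact ⟨d, by rw [φ1, hd]; simp [submatrix_smul]⟩

theorem normalizer_le [Finite F] (h2 : (2 : F) ≠ 0) {α β γ : F} (h : α ^ 2 + β ^ 2 = -1) (h0 : γ ≠ 0)
    (hc : c → σ α = -α ∧ σ β = -β ∧ 2 * γ * σ γ = 1) (w : ℕ)
    (hv : (Nat.card (Gam c σ (Fin (2 ^ (w + 2))))).factorization 2 + 1 ≤
      ((Nat.card (Gam c σ (Fin 2))).factorization 2 + 1) * 2 ^ (w + 1))
    {G : Type*} [Group G] (f : G →* GL (Fin (2 ^ (w + 2))) F) (hf : Function.Injective f)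
    (hr : ∀ g, g ∈ f.range ↔ g ∈ Gam c σ _ ∧ g.1.det = 1) (P : Sylow 2 G) :
    Subgroup.normalizer (P : Set G) ≤ P := by
  have := Finite.of_injective f hf
  obtain ⟨T₀, a1, a2, a3⟩ := exists_good h2 h h0 hc
  obtain ⟨T, b1, b2, b3, b4⟩ := exists_fin h2 a1 a2 w
  obtain ⟨R, hR⟩ := H85.exists_sylow_eq (b2.comap_subtype (K := Gam c σ _)) (by
    rw [a3, ← pow_succ', ← pow_mul] at b3
    have := (Nat.pow_le_pow_right two_pos hv).trans b3
    rw [Subgroup.comap_subtype, Nat.card_congr (Subgroup.subgroupOfEquivOfLe b1).toEquiv]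
    omega)
  let f' := f.codRestrict (Gam c σ _) fun g => ((hr _).1 ⟨g, rfl⟩).1
  obtain ⟨Q, hQ⟩ := P.exists_comap_eq_of_injective (f := f')
    fun _ _ e => hf (congrArg Subtype.val e)
  obtain ⟨g, hg⟩ := MulAction.exists_smul_eq (Gam c σ (Fin (2 ^ (w + 2)))) R Q
  have k : ∀ u, u ∈ P ↔ g.1⁻¹ * f u * g ∈ T := fun u => by
    rw [← SetLike.mem_coe, ← P.coe_coe, ← hQ, ← hg, Sylow.coe_subgroup_smul, hR]
    exact Subgroup.mem_pointwise_smul_iff_inv_smul_mem
  refine H64.normalizer_le_of_odd P fun x x1 x2 => ?_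
  obtain ⟨d, hd⟩ := b4 (g.1⁻¹ * f x * g) (by
    rwa [← MulAut.conj_symm_apply, MulEquiv.orderOf_eq, orderOf_injective f hf])
    fun s s1 s2 => by
      obtain ⟨u, hu⟩ := (hr (g.1 * s * g.1⁻¹)).2 ⟨mul_mem (mul_mem g.2 (b1 s1)) (inv_mem g.2), by
        rwa [Units.val_mul, Units.val_mul, det_units_conj]⟩
      have := (k _).1 ((Subgroup.mem_set_normalizer_iff.1 x1 u).1 ((k u).2 (by
        simpa [hu, mul_assoc] using s1)))
      simpa [hu, mul_assoc] using this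
  have e1 : (f x).1 = d • 1 := by
    rw [show f x = g * (g.1⁻¹ * f x * g) * g.1⁻¹ by group, Units.val_mul, Units.val_mul, hd]
    simp
  have e2 := ((hr _).1 ⟨x, rfl⟩).2
  rw [e1, det_smul, det_one, mul_one, Fintype.card_fin] at e2
  exact (pow_eq_one_iff_of_coprime (Nat.Coprime.pow_left (w + 2) (Nat.coprime_two_left.2 x2))).1
    ⟨hf (Units.ext (by rw [map_pow, Units.val_pow_eq_pow_val, e1, smul_pow, e2]; simp)),
      pow_orderOf_eq_one x⟩

end Cfsg.Agent.H66.Pn
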