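import Cfsg.Agent.S2222
import Cfsg.Agent.S3820
import Cfsg.Agent.H84.Pronormal
import Cfsg.Agent.H38.SBN3
import Cfsg.Agent.H28.Pgl2Torus
import Cfsg.Agent.H28.Pgl2Trace
import Cfsg.Agent.H47.Cyc
import Cfsg.Agent.H9.SLBasic

/-!
Groups all of whose subgroups of odd index are pronormal.
-/

set_option autoImplicit false
set_option linter.unusedSectionVars false

namespace Cfsg.Agent.H66.Pn

open Subgroup

variable {G G' : Type*} [Group G] [Group G']

/-- All subgroups of odd index are pronormal. -/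
def PN (G : Type*) [Group G] : Prop := ∀ H : Subgroup G, Odd H.index → IsPronormal H

theorem PN.of_surj (h : PN G) (f : G →* G') (hf : Function.Surjective f) : PN G' := fun H hH => by
  rw [← map_comap_eq_self_of_surjective hf H]
  exact H84.isPronormal_map f hf (h _ (by rwa [index_comap_of_surjective _ hf]))

variable [Finite G]

theorem PN.of_one (P : Sylow 2 G) (h : ∀ H : Subgroup G, P ≤ H → IsPronormal H) : PN G :=
  fun H hH => by
  obtain ⟨R, hR⟩ := S2222.exists_sylow_le (p := 2) H hH.not_two_dvd_nat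
  obtain ⟨g, rfl⟩ := MulAction.exists_smul_eq G P R
  rw [← map_comap_eq_self_of_surjective (f := (MulAut.conj g).toMonoidHom)
    (MulAut.conj g).surjective H]
  exact H84.isPronormal_map _ (MulAut.conj g).surjective (h _ fun x hx => hR ⟨x, hx, rfl⟩)

theorem PN.of_self (P : Sylow 2 G) (h : normalizer (P : Set G) ≤ P) : PN G :=
  .of_one P fun H hH => S2222.pronormal_of H P hH (h.trans (hH.trans le_normalizer))

theorem PN.of_sbn {k : ℕ → Prop} (h : H38.Lie0 2 G k) (U : Sylow 2 G)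
    (hU : ∀ a ∈ normalizer (U : Set G), ∀ b ∈ normalizer (U : Set G), a * b * a⁻¹ * b⁻¹ ∈ U) :
    PN G := by
  obtain ⟨I, S, hS, -⟩ := h.exists_sylow U
  refine .of_one U fun K hK => S2222.pronormal_of K U hK fun b hb => ?_
  have hB : S.B = normalizer (U : Set G) := by rw [← S.normalizer_U, hS]; rfl
  obtain ⟨u, hu, h, hh, rfl⟩ := S.mem_B.1 (hB ▸ hb)
  rw [← hS] at hK
  refine mul_mem (le_normalizer (hK hu)) (mem_normalizer_fintype fun k (hk : k ∈ K) => ?_)
  let L := K ⊓ K.comap (MulAut.conj h).toMonoidHom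
  have h1 : S.U ≤ L := fun x hx => ⟨hK hx, hK (S.H_U h hh x hx)⟩
  obtain ⟨o, o1, o2⟩ := S2268.exists_mem_smul_eq U (k • U) L (hS ▸ h1) (by
    rintro _ ⟨x, hx, rfl⟩
    obtain ⟨v, hv, m, hm, v', hv', rfl⟩ := S.bruhat k
    have m1 : m ∈ K := (mul_mem_cancel_left (hK hv)).1 ((mul_mem_cancel_right (hK hv')).1 hk)
    have y1 : v' * x * v'⁻¹ ∈ S.U := H38.nz_self hv' x (hS ▸ hx)
    have y2 : m * (v' * x * v'⁻¹) * m⁻¹ ∈ L := ⟨H38.nz_self m1 _ (hK y1), by
      have := H38.nz_self m1 _ (hK (S.H_U _ (S.N_H _ (inv_mem hm) h hh) _ y1))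
      simpa [mul_assoc] using this⟩
    simpa [mul_assoc] using H38.nz_self (h1 hv) _ y2)
  rw [← inv_smul_eq_iff.trans eq_comm, ← mul_smul, Sylow.smul_eq_iff_mem_normalizer] at o2
  have h3 : o⁻¹ * k ∈ K := mul_mem (K.inv_mem o1.1) hk
  have h2 : o⁻¹ * k ∈ L := ⟨h3, by
    simpa [mul_assoc] using mul_mem (hK (hS.ge (hU h (hB ▸ S.H_le_B hh) _ o2))) h3⟩
  exact ((mul_mem_cancel_left (inv_mem o1)).1 h2).2

theorem sylow_pronormal {p : ℕ} [Fact p.Prime] (P : Sylow p G) : IsPronormal (P : Subgroup G) :=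
  S2222.pronormal_of _ P le_rfl le_rfl

theorem exists_compl (S : Sylow 2 G) {K : Subgroup G} (hK : S ≤ K)
    (h : K ⊓ normalizer (S : Set G) ≤ centralizer (S : Set G)) : ∃ O ≤ K, Odd (Nat.card O) ∧
      (∀ x ∈ K, Odd (orderOf x) → x ∈ O) ∧ ∀ x ∈ K, ∃ o ∈ O, ∃ s ∈ S, o * s = x := by
  have h1 : normalizer (S.subtype hK : Set K) ≤ centralizer (S.subtype hK : Set K) := fun x hx y hy =>
    Subtype.ext (h ⟨x.2, mem_normalizer_fintype fun z hz =>
      (mem_set_normalizer_iff.1 hx ⟨z, hK hz⟩).1 hz⟩ y hy)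
  have h2 := MonoidHom.ker_transferSylow_isComplement' _ h1
  refine ⟨_, map_subtype_le (MonoidHom.transferSylow _ h1).ker, ?_, fun x x1 x2 => ⟨⟨x, x1⟩, ?_, rfl⟩,
    fun x hx => ?_⟩
  · rw [card_subtype, ← h2.index_eq_card, ← Nat.not_even_iff_odd, even_iff_two_dvd]
    exact (S.subtype hK).not_dvd_index
  · obtain ⟨k, hk⟩ := (S.subtype hK).2 (MonoidHom.transferSylow _ h1 ⟨x, x1⟩)
    exact (pow_eq_one_iff_of_coprime (Nat.Coprime.pow_left k (Nat.coprime_two_left.2 x2))).1 ⟨hk, by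
      rw [← map_pow, ← orderOf_mk x x1, pow_orderOf_eq_one, map_one]⟩
  · obtain ⟨⟨o, s⟩, e⟩ := h2.2 ⟨x, hx⟩
    exact ⟨_, ⟨o, o.2, rfl⟩, s, s.2, congrArg Subtype.val e⟩

open Matrix
open scoped MatrixGroups Cfsg.Agent.H28

variable {F : Type*} [Field F] [Finite F] [DecidableEq F] (p : ℕ) [Fact p.Prime] [CharP F p]
  (ρ : G →* PGL(2, F)) (hρ : Function.Injective ρ)
include hρ

theorem isCyclic_of_fix {A : Subgroup G} {x : OnePoint F} (hx : ∀ g ∈ A, ρ g • x = x)
    (h : ∀ g ∈ A, g ^ p = 1 → g = 1) : IsCyclic A := by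
  obtain ⟨χ, hχ⟩ := H28.pgl_chi p x
  refine isCyclic_of_injective_ringHom ((Units.coeHom F).comp (χ.comp
    ((ρ.comp A.subtype).codRestrict _ fun g => hx g g.2))) ((injective_iff_map_eq_one _).2 fun g hg => ?_)
  exact Subtype.ext (h g g.2 (hρ ((map_pow _ _ _).trans (((hχ _).1 (Units.ext hg)).trans
    (map_one _).symm))))

include p in
theorem isCyclic_or_fix (hL : H28.pslIn F ≤ ρ.range) {O : Subgroup G} (hO : Odd (Nat.card O)) :
    IsCyclic O ∨ ∃ x : OnePoint F, ∀ y, (∀ g ∈ O, ρ g • y = y) ↔ y = x := by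
  have k : ∀ {X : Type _} [Group X], Nonempty (O ≃* X) → Odd (Nat.card X) := fun ⟨e⟩ =>
    Nat.card_congr e.toEquiv ▸ hO
  rcases H28.pgl2_dickson_geo p ρ hρ O with ⟨x, hx⟩ | ⟨c, -, c2, c3⟩ | ⟨-, h | h | h⟩ | ⟨-, h⟩ |
    ⟨t, K, h1, h⟩
  · refine or_iff_not_imp_right.2 fun hn => ?_
    obtain ⟨y, hy⟩ := not_forall.1 (not_exists.1 hn x)
    have : (∀ g ∈ O, ρ g • y = y) ∧ y ≠ x := by
      by_contra h
      exact hy ⟨fun e => by_contra fun e' => h ⟨e, e'⟩, fun e => e ▸ hx⟩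
    exact isCyclic_of_fix p ρ hρ hx fun g hg e => hρ ((H28.pgl_uni p _ y x
      (by rw [← map_pow, e, map_one]) this.2 (this.1 g hg) (hx g hg)).trans (map_one _).symm)
  · obtain ⟨n, ⟨e⟩, -⟩ := H28.torN_structure ρ hρ hL p c2
    let f := e.toMonoidHom.comp (inclusion c3)
    have hf : Function.Injective f := e.injective.comp (inclusion_injective c3)
    have : IsCyclic f.range := isCyclic_of_le (H' := zpowers (.r 1)) (by
      rintro _ ⟨g, rfl⟩
      have := (orderOf_injective f hf g).symm ▸ hO.of_dvd_nat (orderOf_dvd_natCard g)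
      generalize f g = y at this
      rcases y with i | i
      · exact ⟨i.cast, by simp⟩
      · rw [DihedralGroup.orderOf_sr] at this
        exact absurd this (by decide))
    exact Or.inl (isCyclic_of_surjective _ (MonoidHom.ofInjective hf).symm.surjective)
  · exact absurd (H28.card_alt4 ▸ k h) (by decide)
  · exact absurd (H28.card_sym4 ▸ k h) (by decide)
  · exact absurd (H28.card_alt5 ▸ k h) (by decide)
  · exact absurd (H28.card_alt5 ▸ k h) (by decide)
  rw [← card_map_of_injective hρ] at hO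
  rcases h with h | ⟨h2, h⟩ <;> rw [h, card_map_of_injective (MulAut.conj t).injective] at hO
  · rw [← Nat.card_congr (H28.subPGLEquiv K).toEquiv, H28.card_pgl_two, Nat.odd_mul] at hO
    exact absurd (Nat.Odd.sub_odd hO.1.pow odd_one) (Nat.not_even_iff_odd.2 hO.2)
  · have := Fintype.ofFinite K
    have h3 := H9.gcd_mul_card_psl_two (F := K)
    rw [← Nat.card_eq_fintype_card, Nat.gcd_eq_left (Nat.Odd.sub_odd h2 odd_one).two_dvd,
      Nat.card_congr (H28.subPSLEquiv K).toEquiv] at h3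
    obtain ⟨a, ha⟩ := h2
    obtain ⟨b, hb⟩ := hO
    have h4 : (2 * a + 1) ^ 2 - 1 = 4 * (a * a + a) := Nat.sub_eq_of_eq_add (by ring)
    rw [ha, hb, h4, mul_left_comm (2 * a + 1)] at h3
    omega

theorem pronormal_of_three (hL : H28.pslIn F ≤ ρ.range) (hp : p ≠ 2) (S : Sylow 2 G)
    (h1 : ¬ IsCyclic S) (h2 : Nat.card S = 2 ^ 2)
    (h3 : Nat.card (normalizer (S : Set G)) = 3 * Nat.card S) {H : Subgroup G} (hH : S ≤ H) :
    IsPronormal H := by
  refine (S3820.result _ H hH (sylow_pronormal S)).2 fun g hg => ?_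
  by_cases hK : g ∈ H ⊔ H.map (MulAut.conj g).toMonoidHom
  · exact ⟨g, hK, rfl⟩
  refine ⟨1, one_mem _, H84.map_conj_eq_map_conj_iff.2 ?_⟩
  rw [inv_one, one_mul]
  have a1 : ∀ x ∈ H, g * x * g⁻¹ ∈ H ⊔ H.map (MulAut.conj g).toMonoidHom :=
    fun x hx => mem_sup_right ⟨x, hx, rfl⟩
  have a2 : H ≤ H ⊔ H.map (MulAut.conj g).toMonoidHom := le_sup_left
  generalize H ⊔ H.map (MulAut.conj g).toMonoidHom = K at hK a1 a2
  have a3 : K ⊓ normalizer (S : Set G) ≤ S := by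
    have b1 : S ≤ K ⊓ normalizer (S : Set G) := le_inf (hH.trans a2) le_normalizer
    obtain ⟨a, ha⟩ := card_dvd_of_le b1
    have b2 := card_dvd_of_le (inf_le_right : K ⊓ normalizer (S : Set G) ≤ _)
    rw [h3, ha, mul_comm, Nat.mul_dvd_mul_iff_right Nat.card_pos, Nat.dvd_prime Nat.prime_three] at b2
    rcases b2 with rfl | rfl
    · exact (eq_of_le_of_card_ge b1 (by omega)).ge
    · exact absurd ((eq_of_le_of_card_ge inf_le_right (h3.trans ((mul_comm _ _).trans ha.symm)).le).ge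
        hg).1 hK
  have := IsPGroup.isMulCommutative_of_card_eq_prime_sq h2
  obtain ⟨O, o1, o2, o3, o4⟩ := exists_compl S (hH.trans a2) (a3.trans (le_centralizer _))
  have o5 : ∀ x ∈ O, ∀ y, Odd (orderOf (y * x * y⁻¹)) := fun x hx y =>
    (MulAut.conj y).orderOf_eq x ▸ o2.of_dvd_nat (O.orderOf_dvd_natCard hx)
  rcases isCyclic_or_fix p ρ hρ hL o2 with h | ⟨x, hx⟩
  · have b1 := H47.cyc_eq_of_card_eq (A := (H ⊓ O).map (MulAut.conj g).toMonoidHom) h (by
      rintro _ ⟨x, hx, rfl⟩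
      exact o3 _ (a1 x hx.1) (o5 x hx.2 g)) inf_le_right
      (card_map_of_injective (MulAut.conj g).injective)
    refine mem_normalizer_fintype fun x (hx : x ∈ H) => ?_
    obtain ⟨o, c1, s, c2, rfl⟩ := o4 x (a2 hx)
    rw [← conj_mul]
    exact mul_mem (b1.le ⟨o, ⟨(mul_mem_cancel_right (hH c2)).1 hx, c1⟩, rfl⟩).1
      (hH ((mem_set_normalizer_iff.1 hg s).1 c2))
  refine absurd (isCyclic_of_fix p ρ hρ (x := x) (fun s hs => (hx _).1 fun o ho => ?_)
    fun s hs e => ?_) h1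
  · have := (hx x).2 rfl _ (o3 _ (mul_mem (mul_mem (inv_mem (a2 (hH hs))) (o1 ho))
      (inv_mem (inv_mem (a2 (hH hs))))) (o5 o ho s⁻¹))
    rwa [inv_inv, map_mul, map_mul, mul_smul, mul_smul, map_inv, inv_smul_eq_iff] at this
  · obtain ⟨k, hk⟩ := S.2 ⟨s, hs⟩
    exact (pow_eq_one_iff_of_coprime (Nat.Coprime.pow_left k (Nat.coprime_two_left.2
      ((Fact.out : p.Prime).odd_of_ne_two hp)))).1 ⟨congrArg Subtype.val hk, e⟩

end Cfsg.Agent.H66.Pn
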