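import Cfsg.Agent.H66.PnBase
import Cfsg.Agent.H66.PnGen
import Cfsg.Agent.H66.SL2Order
import Cfsg.Agent.S2431
import Cfsg.Agent.H38.SBNCl
import Cfsg.Agent.H62.Unitri
import Cfsg.Agent.H62.SkFlag3
import Cfsg.Agent.H27.SkHInst
import Cfsg.Agent.H91.Root7
import Cfsg.Agent.H10.GUCard
import Cfsg.Agent.H85.GLWr

/-!
Subgroups of odd index in linear and unitary groups of two-power degree are pronormal.
-/

set_option autoImplicit false
set_option linter.unusedSectionVars false

namespace Cfsg.Agent.H66.Pn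

open Subgroup Matrix Module
open scoped MatrixGroups Cfsg.Agent.H28

theorem val_bound (A w : ℕ) : 2 ^ w * A + padicValNat 2 (2 ^ w).factorial + 1 =
    (1 * A + padicValNat 2 (Nat.factorial 1) + 1) * 2 ^ w := by
  have : padicValNat 2 (2 ^ w).factorial + 1 = 2 ^ w := by
    induction w with
    | zero => simp
    | succ w ih => rw [pow_succ', padicValNat_factorial_mul]; omega
  rw [add_assoc, this]
  simp [add_mul, mul_comm]

variable {F : Type*} [Field F] [Fintype F]

theorem pn_sl_even [CharP F 2] (n : ℕ) : PN (SpecialLinearGroup (Fin (n + 2)) F) := by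
  obtain ⟨U, hU⟩ := H62.exists_sylow_UT (n := n + 2) (K := F) 2
  have hN : normalizer (U : Set _) = H62.BT (n + 2) F := by
    rw [← U.coe_coe, hU]
    exact le_antisymm H62.normalizer_UT_le H62.BT_le_normalizer
  refine .of_sbn (H38.lie0_sl 2 n) U fun a ha b hb => ?_
  rw [hN] at ha hb
  obtain ⟨u, h1, v, h2, d, e, a3, rfl, rfl⟩ : ∃ u ∈ H62.UT (n + 2) F, ∃ v ∈ H62.UT (n + 2) F,
      ∃ d e, d * e = e * d ∧ a = u * d ∧ b = v * e := by
    obtain ⟨u, D, hD, h1, h3⟩ := H62.exists_UT_mul_diag ha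
    obtain ⟨v, E, hE, h2, h4⟩ := H62.exists_UT_mul_diag hb
    exact ⟨u, h1, v, h2, ⟨_, hD⟩, ⟨_, hE⟩, Subtype.ext (commute_diagonal D E), h3, h4⟩
  have a1 := (mul_mem_cancel_left (H62.UT_le_BT h1)).1 ha
  have a2 := (mul_mem_cancel_left (H62.UT_le_BT h2)).1 hb
  rw [← hU] at h1 h2
  rw [← hN] at a1 a2
  have := mul_mem (mul_mem (mul_mem h1 ((mem_set_normalizer_iff.1 a1 v).1 h2))
    ((mem_set_normalizer_iff.1 a2 _).1 (inv_mem h1))) (inv_mem h2)
  rwa [show u * d * (v * e) * (u * d)⁻¹ * (v * e)⁻¹ =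
    u * (d * v * d⁻¹) * (d * e * d⁻¹ * u⁻¹ * e⁻¹) * v⁻¹ by group, a3, mul_inv_cancel_right]

theorem pn_sl_odd (h2 : (2 : F) ≠ 0) (w : ℕ) : PN (SpecialLinearGroup (Fin (2 ^ (w + 2))) F) := by
  obtain ⟨α, β, h⟩ := exists_binary_form_eq (t := (0 : F)) (d := 1) (by
    rw [mul_one, show (4 : F) = 2 * 2 by norm_num, ne_comm]; simpa using h2) (-1)
  have hc : ∀ n m, n = 2 * m → (Nat.card (Gam False (.id F) (Fin n))).factorization 2 = m * _ +
      padicValNat 2 m.factorial := fun n m e => by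
    rw [(eq_top_iff' (Gam False (.id F) (Fin n))).2 fun _ => False.elim, card_top,
      H91.Rt.val_card_gl (Fintype.card_fin n), e,
      H91.Rt.val_gl_even Fintype.one_lt_card (H91.Rt.odd_card h2)]
  exact .of_self default (normalizer_le (c := False) (σ := .id F) h2 (α := α) (β := β) (by grind)
    one_ne_zero False.elim w (by rw [hc _ _ (pow_succ' _ _), hc 2 1 rfl, val_bound])
    SpecialLinearGroup.toGL SpecialLinearGroup.toGL_injective (fun g =>
      ⟨fun ⟨x, hx⟩ => ⟨False.elim, hx ▸ x.2⟩, fun h => ⟨⟨g.1, h.2⟩, Units.ext rfl⟩⟩) _)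

theorem pn_psl_two (h2 : (2 : F) ≠ 0) [IsSimpleGroup PSL(2, F)] : PN PSL(2, F) := by
  classical
  have ho := H91.Rt.odd_card h2
  let S : Sylow 2 SL(2, F) := default
  obtain ⟨h1, h3, h4⟩ := S2431.result ho S
  by_cases h8 : Fintype.card F % 8 = 1 ∨ Fintype.card F % 8 = 7
  · exact (PN.of_self S (h3 h8).le).of_surj _ toPSL_surjective
  have h5 := h4 (by obtain ⟨a, ha⟩ := ho; omega)
  obtain ⟨p, hp⟩ := CharP.exists F
  have := Fact.mk (CharP.char_is_prime F p)
  have k0 : (toPSL F).ker = center _ := QuotientGroup.ker_mk' _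
  have k1 : Nat.card (toPSL F).ker = 2 := by
    rw [k0, Nat.card_eq_two_iff' 1]
    refine ⟨⟨-1, (sl2_mem_center_iff _).2 (Or.inr rfl)⟩, fun e => h2 ?_, fun y hy =>
      Subtype.ext (((sl2_mem_center_iff _).1 y.2).resolve_left fun e => hy (Subtype.ext e))⟩
    have := congrArg (fun g => tr2 g.1) e
    simp only [tr2_neg, tr2_one, OneMemClass.coe_one] at this
    exact mul_self_eq_zero.1 (by linear_combination -this)
  have k2 : ∀ K : Subgroup PSL(2, F), Nat.card (K.comap (toPSL F)) = 2 * Nat.card K := fun K => by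
    have a1 := (K.comap (toPSL F)).card_mul_index
    rw [index_comap_of_surjective _ toPSL_surjective, ← (toPSL F).ker.card_mul_index, index_ker,
      MonoidHom.range_eq_top.2 toPSL_surjective, card_top, ← K.card_mul_index, ← mul_assoc, k1] at a1
    exact Nat.eq_of_mul_eq_mul_right (Nat.pos_of_ne_zero index_ne_zero_of_finite) a1
  have k3 := k2 (S.mapSurjective toPSL_surjective)
  have k4 := k2 (normalizer (S.mapSurjective toPSL_surjective : Set _))
  rw [← Sylow.coe_coe, comap_normalizer_eq_of_surjective _ toPSL_surjective] at k4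
  rw [Sylow.coe_mapSurjective, comap_map_eq_self
    ((IsPGroup.of_card (n := 1) k1).le_sylow_of_normal S),
    ← Sylow.coe_mapSurjective toPSL_surjective] at k3 k4
  have k5 : Nat.card S = 2 ^ 3 := by
    obtain ⟨a, ha⟩ : ∃ a, Fintype.card F ^ 2 - 1 = 2 ^ 3 * (2 * a + 1) := by
      obtain ⟨b, hb | hb⟩ : ∃ b, Fintype.card F = 8 * b + 3 ∨ Fintype.card F = 8 * b + 5 :=
        ⟨Fintype.card F / 8, by obtain ⟨a, ha⟩ := ho; omega⟩
      · exact ⟨4 * b * b + 3 * b, Nat.sub_eq_of_eq_add (by rw [hb]; ring)⟩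
      · exact ⟨4 * b * b + 5 * b + 1, Nat.sub_eq_of_eq_add (by rw [hb]; ring)⟩
    rw [H85.card_sylow_sl2 ho, ha, padicValNat.mul (by omega) (by omega), padicValNat.prime_pow,
      H85.val2_eq_zero (odd_two_mul_add_one a)]
  generalize S.mapSurjective toPSL_surjective = R at k3 k4
  have k6 : Nat.card R = 2 ^ 2 := by omega
  have k7 : Nat.card (normalizer (R : Set PSL(2, F))) = 3 * Nat.card R :=
    Nat.eq_of_mul_eq_mul_left two_pos (k4.symm.trans (h5.trans (by omega)))
  refine .of_one R fun H hH => pronormal_of_three p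
    ProjectiveSpecialLinearGroup.toPGL ProjectiveSpecialLinearGroup.toPGL_injective
    (H28.toPGL_range F).ge (fun e => h2 (by subst e; exact CharP.cast_eq_zero F 2)) _ (fun hc => ?_)
    k6 k7 hH
  have a1 := (Nat.minFac_eq_two_iff _).2
    (((dvd_pow_self 2 two_ne_zero).trans k6.symm.dvd).trans (card_subgroup_dvd_card _))
  have a2 := (hc.isComplement' a1).card_mul_card
  have a3 := card_le_card_group (normalizer (R : Set PSL(2, F)))
  have a4 := Nat.card_pos (α := PSL(2, F))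
  rcases (MonoidHom.normal_ker (MonoidHom.transferSylow R
    (hc.normalizer_le_centralizer a1))).eq_bot_or_eq_top with e | e <;> rw [e] at a2
  · rw [card_bot] at a2
    omega
  · rw [card_top] at a2
    nlinarith

section Flag

open H27 H62

variable {V : Type*} [AddCommGroup V] [Module F V] {σ : F →+* F} {G : Type*} [Group G] {m : ℕ}
  {ρ : G →* V ≃ₗ[F] V} [FiniteDimensional F V] {e : Fin m → V} {B : V →ₛₗ[σ] V →ₗ[F] F}

theorem comm_mem_UU {a b : G} (ha : a ∈ Bor ρ e) (hb : b ∈ Bor ρ e) : a * b * a⁻¹ * b⁻¹ ∈ UU ρ e :=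
  mem_UU fun j => by
    have h0 : e j ∈ MM F e (j + 1) := e_mem_MM (Nat.lt_succ_self _)
    obtain ⟨α, h1⟩ := exists_of_mem_succ j (Bor.apply ha h0)
    obtain ⟨β, h2⟩ := exists_of_mem_succ j (Bor.apply hb h0)
    obtain ⟨γ, h3⟩ := exists_of_mem_succ j (Bor.apply (inv_mem (mul_mem hb ha)) h0)
    have h4 := sub_mem (add_mem (Submodule.smul_mem _ β h1) (Bor.apply ha h2))
      (add_mem (Submodule.smul_mem _ α h2) (Bor.apply hb h1))
    have h5 := add_mem (sub_mem (Bor.apply (mul_mem ha hb) h3) (Bor.apply (mul_mem hb ha) h3))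
      (Submodule.smul_mem _ γ h4)
    rw [mul_assoc, ← _root_.mul_inv_rev, rho_mul]
    convert h5 using 1
    simp only [map_sub, map_smul, rho_inv']
    simp only [rho_mul]
    module

theorem exists_comm [Finite G] (R : Rp ρ B) (p : ℕ) [Fact p.Prime] [CharP F p]
    (hN : ∀ a, σ a = a → ∃ d, a = σ d * d) : ∃ U : Sylow p G, ∀ a ∈ normalizer (U : Set G),
      ∀ b ∈ normalizer (U : Set G), a * b * a⁻¹ * b⁻¹ ∈ U := by
  have S' := R.skh
  have h1 : σ (-1) * -1 = 1 := by simp
  have h2 : ∀ x y, B y x = -1 * σ (B x y) := fun x y => by rw [S'.skew, neg_one_mul]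
  obtain ⟨m, e, f, H, -, -, hmax⟩ := exists_maximal_hyp h1 h2 (fun x => B x x = 0) fun _ h => h
  have han : ∀ x ∈ perpFam B (Sum.elim e f), B x x = 0 → x = 0 := fun x hx h =>
    S'.nd x (H.radical h1 h2 hx fun w hw => by
      by_contra h3
      obtain ⟨b, b1, b2, b3⟩ := S'.exists_partner h hx hw h3
      exact hmax x hx b b1 h b2 b3)
  obtain ⟨w₀, hw, hs⟩ : ∃ w₀ ∈ perpFam B (Sum.elim e f),
      ∀ x ∈ perpFam B (Sum.elim e f), ∃ c : F, x = c • w₀ := by
    by_cases h0 : ∀ x ∈ perpFam B (Sum.elim e f), x = 0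
    · exact ⟨0, zero_mem _, fun x hx => ⟨0, by simp [h0 x hx]⟩⟩
    push Not at h0
    obtain ⟨w, hw, hw0⟩ := h0
    have h3 : B w w ≠ 0 := fun h => hw0 (han w hw h)
    refine ⟨w, hw, fun x hx => ⟨B w x / B w w, ?_⟩⟩
    have h4 : x - (B w x / B w w) • w ∈ perpFam B (Sum.elim e f) :=
      sub_mem hx (Submodule.smul_mem _ _ hw)
    have h5 : B w (x - (B w x / B w w) • w) = 0 := by simp [h3]
    rw [← sub_eq_zero]
    generalize x - (B w x / B w w) • w = y at h4 h5
    obtain ⟨d, hd⟩ := hN (-(B y y / B w w)) (by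
      rw [map_neg, map_div₀, show σ (B w w) = -B w w by linear_combination S'.skew w w,
        show σ (B y y) = -B y y by linear_combination S'.skew y y, neg_div_neg_eq])
    have h6 := han (y + d • w) (add_mem h4 (Submodule.smul_mem _ _ hw)) (by
      simp only [map_add, LinearMap.map_smulₛₗ, LinearMap.add_apply, LinearMap.smul_apply,
        smul_eq_mul, h5, S'.zero_symm h5, RingHom.id_apply]
      field_simp at hd
      linear_combination -hd)
    have h7 := congrArg (B w) h6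
    simp only [map_add, h5, map_smul, smul_eq_mul, zero_add, map_zero, mul_eq_zero, h3,
      or_false] at h7
    simpa [h7] using h6
  obtain ⟨U, hU⟩ := R.exists_sylow H hw hs p
  refine ⟨U, fun a ha b hb => ?_⟩
  rw [← U.coe_coe, hU] at ha hb
  exact hU.ge (comm_mem_UU (R.normalizer_le H ha) (R.normalizer_le H hb))

end Flag

variable {q : ℕ} [hF : Fact (Fintype.card F = q ^ 2)]

open H10 H27 H62 in
theorem pn_su_even [CharP F 2] (n : ℕ) : PN (SU (n + 4) F q) := by
  obtain ⟨ζ, h0, hζ⟩ := exists_skew F q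
  let ρ : SU (n + 4) F q →* ((Fin (n + 4) → F) ≃ₗ[F] (Fin (n + 4) → F)) :=
    SpecialLinearGroup.toLin'.comp (SU (n + 4) F q).subtype
  have hρ : ∀ g x, ρ g x = g.1.1 *ᵥ x := fun g x => rfl
  have R : Rp ρ (suB (n + 4) q ζ) :=
    ⟨skH_su (by omega) h0 hζ, fun a b h => Subtype.ext (Subtype.ext
        (toLin'.injective (LinearMap.ext fun u => by rw [toLin'_apply, toLin'_apply, ← hρ, ← hρ, h]))),
      fun g => ⟨fun x y => by rw [hρ, hρ, suB_apply, suB_apply]; exact congrArg _ (g.2 y x),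
        mem_SLV.2 ((LinearMap.det_toLin' g.1.1).trans g.1.2)⟩,
      fun g hg => ⟨⟨⟨LinearMap.toMatrix' g.toLinearMap,
        (LinearMap.det_toMatrix' _).trans (mem_SLV.1 hg.2)⟩,
        fun u v => by
          have := hg.1 v u
          rw [suB_apply, suB_apply, mul_right_inj' h0, ← LinearEquiv.coe_coe,
            ← LinearMap.toMatrix'_mulVec, ← LinearMap.toMatrix'_mulVec] at this
          exact this⟩, LinearEquiv.ext fun x => (hρ _ x).trans (LinearMap.toMatrix'_mulVec _ _)⟩⟩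
  obtain ⟨U, hU⟩ := exists_comm R 2 fun a ha =>
    (exists_norm_eq ha).imp fun d hd => by rw [← hd, mul_comm]
  exact .of_sbn (H38.lie0_su 2 hF.out (n + 2)) U hU

theorem val_gu (h1 : 1 < q) (ho : Odd q) (m : ℕ) : padicValNat 2 (∏ i ∈ Finset.range (2 * m),
    (if Even i then q ^ (i + 1) + 1 else q ^ (i + 1) - 1)) =
      m * (padicValNat 2 (q + 1) + padicValNat 2 (q ^ 2 - 1)) + padicValNat 2 m.factorial := by
  have h0 : ∀ i, (if Even i then q ^ (i + 1) + 1 else q ^ (i + 1) - 1) ≠ 0 := fun i => by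
    split_ifs
    · omega
    · exact H85.pow_sub_one_ne_zero h1 (by omega)
  induction m with
  | zero => simp
  | succ m ih =>
    have e1 := H85.val2_pow_split h1 ho (j := 2 * m + 1) (by omega)
    have e2 := H85.val2_sq_sub_one h1 ho
    have e3 := H85.val2_pow_even h1 ho (j := m + 1) (by omega)
    have e4 := H91.Rt.val_pow_odd h1 ho m
    rw [H85.val2_eq_zero (odd_two_mul_add_one m)] at e1
    rw [mul_add, mul_one, Finset.prod_range_succ, padicValNat.mul
      (Finset.prod_ne_zero_iff.2 fun i _ => h0 i) (h0 _), Finset.prod_range_succ, padicValNat.mul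
      (Finset.prod_ne_zero_iff.2 fun i _ => h0 i) (h0 _), ih, if_pos (even_two_mul m),
      if_neg (by simp), Nat.factorial_succ, padicValNat.mul (by omega) (Nat.factorial_ne_zero m),
      show 2 * m + 1 + 1 = 2 * (m + 1) from rfl, e3, add_mul]
    omega

theorem pn_su_odd (h2 : (2 : F) ≠ 0) (w : ℕ) : PN (SU (2 ^ (w + 2)) F q) := by
  have ho := H91.Rt.odd_card h2
  rw [hF.out, Nat.odd_pow_iff two_ne_zero] at ho
  have hG : ∀ n, Gam True (H10.cj F q) (Fin n) = GU n F q := fun n => Subgroup.ext fun g =>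
    ⟨fun h => (H10.isIsom_iff _).2 (h trivial), fun h _ => (H10.isIsom_iff _).1 h⟩
  have hc : ∀ n m, n = 2 * m → (Nat.card (Gam True (H10.cj F q) (Fin n))).factorization 2 = m * _ +
      padicValNat 2 m.factorial := fun n m e => by
    have := H10.two_le_q F q
    rw [hG, H10.card_GU, Nat.factorization_def _ Nat.prime_two, padicValNat.mul (by positivity)
      (Finset.prod_ne_zero_iff.2 fun i _ => by
        split_ifs
        · omega
        · exact H85.pow_sub_one_ne_zero this (by omega)), H85.val2_eq_zero ho.pow, zero_add, e,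
      val_gu this ho]
  obtain ⟨γ, hγ⟩ := H10.exists_norm_eq (F := F) (q := q) (t := 2⁻¹) (by simp [map_ofNat])
  obtain ⟨α, β, h⟩ : ∃ α β : F, α ^ 2 + β ^ 2 = -1 ∧ H10.cj F q α = -α ∧ H10.cj F q β = -β := by
    obtain ⟨i, hi⟩ := (FiniteField.isSquare_neg_one_iff (F := F)).2 (by
      obtain ⟨a, ha⟩ := ho
      rw [hF.out, ha, show (2 * a + 1) ^ 2 = 4 * (a * a + a) + 1 by ring]
      omega)
    obtain ⟨ζ, h0, hζ⟩ := H10.exists_skew F q
    have h3 := congrArg (H10.cj F q) hi
    rw [map_neg, map_one, map_mul, hi, mul_self_eq_mul_self_iff] at h3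
    rcases h3 with h3 | h3
    · refine ⟨(ζ - ζ⁻¹) / 2, (ζ + ζ⁻¹) / 2 * i, by grind, ?_, ?_⟩ <;>
        simp only [map_div₀, map_sub, map_add, map_mul, map_inv₀, map_ofNat, hζ, ← h3] <;> grind
    · exact ⟨0, i, by grind, by simp, by grind⟩
  exact .of_self default (normalizer_le (c := True) (σ := H10.cj F q) h2 h.1 (γ := γ) (by grind)
    (fun _ => ⟨h.2.1, h.2.2, by grind⟩) w (by rw [hc _ _ (pow_succ' _ _), hc 2 1 rfl, val_bound])
    (SpecialLinearGroup.toGL.comp (Subgroup.subtype _))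
    (SpecialLinearGroup.toGL_injective.comp Subtype.val_injective) (fun g => by
      rw [hG]
      exact ⟨fun ⟨x, hx⟩ => hx ▸ ⟨x.2, x.1.2⟩, fun h => ⟨⟨⟨g.1, h.2⟩, h.1⟩, Units.ext rfl⟩⟩) _)

end Cfsg.Agent.H66.Pn
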